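import Mathlib.LinearAlgebra.Matrix.Rank
import Mathlib.LinearAlgebra.Matrix.ToLin
import Mathlib.RingTheory.LocalRing.ResidueField.Ideal

/-!
# Minors and right inverses of matrices

* `exists_minor`: a `d × r` matrix over a field with linearly independent rows has an invertible `d × d` submatrix.
* `exists_rightInverse`: a `d × r` matrix over a ring whose rows are independent at every maximal ideal has a right
  inverse.
-/

set_option autoImplicit false
universe u

namespace Groth.Agent.Lefpen.H718.Minor

open Matrix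

theorem exists_minor {F : Type u} [Field F] {d r : ℕ} (M : Matrix (Fin d) (Fin r) F)
    (h : LinearIndependent F M.row) : ∃ σ : Fin d → Fin r, (M.submatrix id σ).det ≠ 0 := by
  have h1 : M.rank = d := by simpa using h.rank_matrix
  have h2 : Module.finrank F (Submodule.span F (Set.range M.col)) = d := by
    rw [← Matrix.rank_eq_finrank_span_cols, h1]
  obtain ⟨f, hf, hspan, hli⟩ := Submodule.exists_fun_fin_finrank_span_eq F (Set.range M.col)
  have hf' : ∀ i : Fin d, ∃ l, M.col l = f (Fin.cast h2.symm i) := fun i => hf _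
  choose σ hσ using hf'
  refine ⟨σ, ?_⟩
  have h3 : LinearIndependent F (M.submatrix id σ).col := by
    have h4 : LinearIndependent F (f ∘ Fin.cast h2.symm) := hli.comp _ (Fin.cast_injective _)
    convert h4 using 1
    funext i
    exact hσ i
  rw [Matrix.linearIndependent_cols_iff_isUnit] at h3
  exact ((Matrix.isUnit_iff_isUnit_det _).1 h3).ne_zero

theorem exists_rightInverse {C : Type u} [CommRing C] {d r : ℕ} (M : Matrix (Fin d) (Fin r) C)
    (h : ∀ (m : Ideal C) (_ : m.IsMaximal), LinearIndependent m.ResidueField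
      (M.map (algebraMap C m.ResidueField)).row) :
    ∃ B : Matrix (Fin r) (Fin d) C, M * B = 1 := by
  classical
  let J : Ideal C := Ideal.span (Set.range fun σ : Fin d → Fin r => (M.submatrix id σ).det)
  have hJ : J = ⊤ := by
    by_contra hne
    obtain ⟨m, hm, hJm⟩ := Ideal.exists_le_maximal J hne
    obtain ⟨σ, hσ⟩ := exists_minor _ (h m hm)
    apply hσ
    have h1 : (M.submatrix id σ).det ∈ m := hJm (Ideal.subset_span ⟨σ, rfl⟩)
    have h2 : algebraMap C m.ResidueField (M.submatrix id σ).det = 0 := by simpa using h1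
    rw [← h2, RingHom.map_det]
    rfl
  have h1 : (1 : C) ∈ J := by rw [hJ]; trivial
  obtain ⟨c, hc⟩ := (Ideal.mem_span_range_iff_exists_fun).1 h1
  refine ⟨∑ σ : Fin d → Fin r, c σ • ((1 : Matrix (Fin r) (Fin r) C).submatrix id σ *
    (M.submatrix id σ).adjugate), ?_⟩
  rw [Matrix.mul_sum]
  have h3 : ∀ σ : Fin d → Fin r, M * (c σ • ((1 : Matrix (Fin r) (Fin r) C).submatrix id σ *
    (M.submatrix id σ).adjugate)) = (c σ * (M.submatrix id σ).det) • (1 : Matrix (Fin d) (Fin d) C) := by
    intro σ
    rw [Matrix.mul_smul, ← Matrix.mul_assoc]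
    have : M * (1 : Matrix (Fin r) (Fin r) C).submatrix id σ = M.submatrix id σ := by
      ext i j
      simp [Matrix.mul_apply, Matrix.one_apply]
    rw [this, Matrix.mul_adjugate, smul_smul]
  rw [Finset.sum_congr rfl fun σ _ => h3 σ, ← Finset.sum_smul, hc, one_smul]

end Groth.Agent.Lefpen.H718.Minor
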