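import Groth.Agent.CalgB.RegQuot
import Mathlib.RingTheory.RegularLocalRing.Polynomial
import Mathlib.Algebra.MvPolynomial.PDeriv
import Mathlib.RingTheory.Ideal.Height
import Mathlib.RingTheory.Ideal.KrullsHeightTheorem
import Mathlib.LinearAlgebra.FiniteDimensional.Basic

/-!
# Regularity of the affine cone of a smooth complete intersection outside the origin

`S = k[T_0..T_N]`, `g_1..g_d ∈ S`.

* `JacCond g`: at every point with values in a field, different from the origin and killing the `g_i`, the gradients
  of the `g_i` are linearly independent.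
* `regular_quotient`: `h_i ∈ P` with linearly independent gradients at `κ(P)`: `S_P/(h)` is regular and
  `dim S_P/(h) + |ι| = dim S_P`.
* `le_height`: `JacCond g → d ≤ ht (g_1..g_d)` (`d ≤ N + 1`).
* `isRegularLocalRing_cone`: the local rings of `S/(g)` at primes not containing all `T_j` are regular.
-/

set_option autoImplicit false
universe u

open MvPolynomial IsLocalRing

namespace Groth.Agent.Lefpen.H718.Reg

variable {k : Type u} [Field k]

/-- At every point `≠ 0` of the common zero set with values in a field, the gradients are linearly independent. -/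
def JacCond {N d : ℕ} (g : Fin d → MvPolynomial (Fin (N + 1)) k) : Prop :=
  ∀ (F : Type u) [Field F] (v : MvPolynomial (Fin (N + 1)) k →+* F), (∀ i, v (g i) = 0) →
    (∃ j, v (X j) ≠ 0) → LinearIndependent F (fun i : Fin d => fun l : Fin (N + 1) => v (pderiv l (g i)))

theorem pderiv_mem_sq {σ : Type} {F : Type u} [Field F] (v : MvPolynomial σ k →+* F) (P : Ideal (MvPolynomial σ k))
    (hv : ∀ x ∈ P, v x = 0) (l : σ) (y : MvPolynomial σ k) (hy : y ∈ P ^ 2) : v (pderiv l y) = 0 := by
  rw [pow_two] at hy
  induction hy using Submodule.mul_induction_on' with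
  | mem_mul_mem a ha b hb =>
    rw [Derivation.leibniz, map_add, smul_eq_mul, smul_eq_mul, map_mul, map_mul, hv a ha, hv b hb]
    simp
  | add x _ y _ hx hy => rw [map_add, map_add, hx, hy, add_zero]

section

variable {N : ℕ} {ι : Type} [Finite ι] (P : Ideal (MvPolynomial (Fin N) k)) [P.IsPrime]

theorem indep_cotangent (h : ι → MvPolynomial (Fin N) k) (hP : ∀ i, h i ∈ P)
    (hlin : LinearIndependent P.ResidueField (fun i : ι => fun l : Fin N =>
      algebraMap (MvPolynomial (Fin N) k) P.ResidueField (pderiv l (h i))))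
    (c : ι → Localization.AtPrime P)
    (hc : (∑ᶠ i, c i * algebraMap (MvPolynomial (Fin N) k) (Localization.AtPrime P) (h i)) ∈
      maximalIdeal (Localization.AtPrime P) ^ 2) (i : ι) :
    c i ∈ maximalIdeal (Localization.AtPrime P) := by
  classical
  have := Fintype.ofFinite ι
  rw [finsum_eq_sum_of_fintype] at hc
  let S := MvPolynomial (Fin N) k
  let v : S →+* P.ResidueField := algebraMap S P.ResidueField
  have hv : ∀ x, v x = 0 ↔ x ∈ P := fun x => by
    simp [v]
  obtain ⟨s, hs⟩ := IsLocalization.exist_integer_multiples_of_finite P.primeCompl c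
  choose b hb using hs
  have hs0 : v s ≠ 0 := fun h0 => s.2 ((hv _).1 h0)
  have h1 : algebraMap S (Localization.AtPrime P) (∑ i, b i * h i) ∈
      maximalIdeal (Localization.AtPrime P) ^ 2 := by
    have : algebraMap S (Localization.AtPrime P) (∑ i, b i * h i) =
        algebraMap S (Localization.AtPrime P) s * ∑ i, c i * algebraMap S (Localization.AtPrime P) (h i) := by
      rw [map_sum, Finset.mul_sum]
      refine Finset.sum_congr rfl fun i _ => ?_
      rw [map_mul, hb i, ← mul_assoc]
      rw [Algebra.smul_def]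
    rw [this]
    exact Ideal.mul_mem_left _ _ hc
  rw [← Localization.AtPrime.map_eq_maximalIdeal, ← Ideal.map_pow,
    IsLocalization.algebraMap_mem_map_algebraMap_iff P.primeCompl] at h1
  obtain ⟨t, ht, h2⟩ := h1
  have ht0 : v t ≠ 0 := fun h0 => ht ((hv _).1 h0)
  have h3 : ∀ l, ∑ i, v (b i) * v (pderiv l (h i)) = 0 := by
    intro l
    have h4 := pderiv_mem_sq v P (fun x hx => (hv x).2 hx) l _ h2
    have h6 : v (pderiv l (∑ i, b i * h i)) = ∑ i, v (b i) * v (pderiv l (h i)) := by
      rw [map_sum, map_sum]
      refine Finset.sum_congr rfl fun i _ => ?_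
      rw [Derivation.leibniz, smul_eq_mul, smul_eq_mul, map_add, map_mul, map_mul, (hv (h i)).2 (hP i), zero_mul,
        add_zero]
    have h7 : v (∑ i, b i * h i) = 0 := by
      rw [map_sum]
      exact Finset.sum_eq_zero fun i _ => by rw [map_mul, (hv (h i)).2 (hP i), mul_zero]
    rw [Derivation.leibniz, smul_eq_mul, smul_eq_mul, map_add, map_mul, map_mul, h7, zero_mul, add_zero,
      h6] at h4
    exact (mul_eq_zero.1 h4).resolve_left ht0
  rw [Fintype.linearIndependent_iff] at hlin
  have h5 := hlin (fun i => v (b i)) (by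
    funext l
    simp only [Finset.sum_apply, Pi.smul_apply, smul_eq_mul, Pi.zero_apply]
    exact h3 l) i
  have h8 : b i ∈ P := (hv _).1 h5
  have h9 : algebraMap S (Localization.AtPrime P) (b i) ∈ maximalIdeal (Localization.AtPrime P) := by
    rw [← Localization.AtPrime.map_eq_maximalIdeal]
    exact Ideal.mem_map_of_mem _ h8
  rw [hb i, Algebra.smul_def] at h9
  rcases (Ideal.IsPrime.mem_or_mem inferInstance h9) with h10 | h10
  · exfalso
    have h11 : IsUnit (algebraMap S (Localization.AtPrime P) s) := IsLocalization.map_units _ s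
    exact (IsLocalRing.mem_maximalIdeal _).1 h10 h11
  · exact h10

theorem regular_quotient (h : ι → MvPolynomial (Fin N) k) (hP : ∀ i, h i ∈ P)
    (hlin : LinearIndependent P.ResidueField (fun i : ι => fun l : Fin N =>
      algebraMap (MvPolynomial (Fin N) k) P.ResidueField (pderiv l (h i)))) :
    IsRegularLocalRing (Localization.AtPrime P ⧸ Ideal.span (Set.range fun i =>
      algebraMap (MvPolynomial (Fin N) k) (Localization.AtPrime P) (h i))) ∧
    ringKrullDim (Localization.AtPrime P ⧸ Ideal.span (Set.range fun i =>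
      algebraMap (MvPolynomial (Fin N) k) (Localization.AtPrime P) (h i))) + (Nat.card ι : ℕ) =
        ringKrullDim (Localization.AtPrime P) := by
  refine Groth.Agent.CalgB.RegQuot.isRegularLocalRing_quotient _ (fun i => ?_) (indep_cotangent P h hP hlin)
  rw [← Localization.AtPrime.map_eq_maximalIdeal]
  exact Ideal.mem_map_of_mem _ (hP i)

theorem card_le_height (h : ι → MvPolynomial (Fin N) k) (hP : ∀ i, h i ∈ P)
    (hlin : LinearIndependent P.ResidueField (fun i : ι => fun l : Fin N =>
      algebraMap (MvPolynomial (Fin N) k) P.ResidueField (pderiv l (h i)))) :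
    (Nat.card ι : ℕ∞) ≤ P.height := by
  obtain ⟨h1, h2⟩ := regular_quotient P h hP hlin
  rw [IsLocalization.AtPrime.ringKrullDim_eq_height P] at h2
  have h3 : (0 : WithBot ℕ∞) ≤ ringKrullDim (Localization.AtPrime P ⧸ Ideal.span (Set.range fun i =>
      algebraMap (MvPolynomial (Fin N) k) (Localization.AtPrime P) (h i))) := ringKrullDim_nonneg_of_nontrivial
  have h4 : ((Nat.card ι : ℕ) : WithBot ℕ∞) ≤ (P.height : WithBot ℕ∞) := by
    rw [← h2]
    exact le_add_of_nonneg_left h3
  exact_mod_cast h4

end

variable {N d : ℕ} (g : Fin d → MvPolynomial (Fin (N + 1)) k)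

theorem jacCond_residueField (hJ : JacCond g) (P : Ideal (MvPolynomial (Fin (N + 1)) k)) [P.IsPrime]
    (hP : ∀ i, g i ∈ P) (j : Fin (N + 1)) (hj : X j ∉ P) :
    LinearIndependent P.ResidueField (fun i : Fin d => fun l : Fin (N + 1) =>
      algebraMap (MvPolynomial (Fin (N + 1)) k) P.ResidueField (pderiv l (g i))) :=
  hJ P.ResidueField (algebraMap _ _) (fun i => by simpa using hP i) ⟨j, by simpa using hj⟩

theorem le_height_irrelevant (P : Ideal (MvPolynomial (Fin (N + 1)) k)) [P.IsPrime] (hP : ∀ j, X j ∈ P) :
    ((N + 1 : ℕ) : ℕ∞) ≤ P.height := by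
  have h := card_le_height P (ι := Fin (N + 1)) (fun j => X j) hP (by
    classical
    rw [Fintype.linearIndependent_iff]
    intro c hc i
    have h1 := congrFun hc i
    simp only [Finset.sum_apply, Pi.smul_apply, smul_eq_mul, Pi.zero_apply] at h1
    rw [Finset.sum_eq_single i] at h1
    · simpa using h1
    · intro b _ hb
      rw [pderiv_X_of_ne hb]
      simp
    · simp)
  simpa using h

theorem le_height (hJ : JacCond g) (hd : d ≤ N + 1) : (d : ℕ∞) ≤ (Ideal.span (Set.range g)).height := by
  rw [Ideal.height_eq_inf_minimalPrimes]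
  refine le_iInf₂ fun P hP => ?_
  have hPp : P.IsPrime := hP.1.1
  have hg : ∀ i, g i ∈ P := fun i => hP.1.2 (Ideal.subset_span ⟨i, rfl⟩)
  by_cases h : ∃ j, X j ∉ P
  · obtain ⟨j, hj⟩ := h
    have := card_le_height P (ι := Fin d) g hg (jacCond_residueField g hJ P hg j hj)
    simpa using this
  · push Not at h
    exact le_trans (by exact_mod_cast hd) (le_height_irrelevant P h)

theorem nonempty_quotient_equiv (A : Type u) [CommRing A] (J : Ideal A) (p : Ideal (A ⧸ J)) [hp : p.IsPrime] :
    Nonempty (Localization.AtPrime p ≃+* (Localization.AtPrime (p.comap (Ideal.Quotient.mk J)) ⧸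
      J.map (algebraMap A (Localization.AtPrime (p.comap (Ideal.Quotient.mk J)))))) := by
  let q : Ideal A := p.comap (Ideal.Quotient.mk J)
  have h3 : Algebra.algebraMapSubmonoid (A ⧸ J) q.primeCompl = p.primeCompl := by
    ext x
    obtain ⟨x, rfl⟩ := Ideal.Quotient.mk_surjective x
    constructor
    · rintro ⟨y, hy, hxy⟩
      intro hx
      have hxy' : Ideal.Quotient.mk J y = Ideal.Quotient.mk J x := hxy
      rw [← hxy'] at hx
      exact hy hx
    · intro hx
      exact ⟨x, hx, rfl⟩
  have h4 : IsLocalization.AtPrime (Localization.AtPrime q ⧸ J.map (algebraMap A (Localization.AtPrime q))) p := by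
    have : IsLocalization (Algebra.algebraMapSubmonoid (A ⧸ J) q.primeCompl)
      (Localization.AtPrime q ⧸ J.map (algebraMap A (Localization.AtPrime q))) := inferInstance
    rw [h3] at this
    exact this
  exact ⟨(IsLocalization.algEquiv p.primeCompl (Localization.AtPrime p)
    (Localization.AtPrime q ⧸ J.map (algebraMap A (Localization.AtPrime q)))).toRingEquiv⟩

/-- The affine cone is regular outside the origin. -/
theorem isRegularLocalRing_cone (hJ : JacCond g)
    (q : Ideal (MvPolynomial (Fin (N + 1)) k ⧸ Ideal.span (Set.range g))) [q.IsPrime] (j : Fin (N + 1))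
    (hj : Ideal.Quotient.mk _ (X j) ∉ q) :
    IsRegularLocalRing (Localization.AtPrime q) ∧
      ringKrullDim (Localization.AtPrime q) + (d : ℕ) =
        ringKrullDim (Localization.AtPrime (q.comap (Ideal.Quotient.mk (Ideal.span (Set.range g))))) := by
  let P := q.comap (Ideal.Quotient.mk (Ideal.span (Set.range g)))
  have hP : ∀ i, g i ∈ P := fun i => by
    change Ideal.Quotient.mk (Ideal.span (Set.range g)) (g i) ∈ q
    have h0 : Ideal.Quotient.mk (Ideal.span (Set.range g)) (g i) = 0 :=
      Ideal.Quotient.eq_zero_iff_mem.2 (Ideal.subset_span ⟨i, rfl⟩)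
    rw [h0]
    exact zero_mem _
  obtain ⟨h1, h2⟩ := regular_quotient P (ι := Fin d) g hP (jacCond_residueField g hJ P hP j hj)
  have h3 : Ideal.span (Set.range fun i => algebraMap (MvPolynomial (Fin (N + 1)) k) (Localization.AtPrime P) (g i)) =
      (Ideal.span (Set.range g)).map (algebraMap _ (Localization.AtPrime P)) := by
    rw [Ideal.map_span, ← Set.range_comp]
    rfl
  rw [h3] at h1 h2
  obtain ⟨e⟩ := nonempty_quotient_equiv (MvPolynomial (Fin (N + 1)) k) (Ideal.span (Set.range g)) q
  refine ⟨IsRegularLocalRing.of_ringEquiv e.symm, ?_⟩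
  rw [ringKrullDim_eq_of_ringEquiv e, ← h2, Nat.card_eq_fintype_card, Fintype.card_fin]

end Groth.Agent.Lefpen.H718.Reg
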