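import Groth.Agent.Lefpen.H718.Jac
import Groth.Agent.Lefpen.H718.Reg
import Groth.Agent.Lefpen.H718.Minor

/-!
# Smooth complete intersections satisfy the Jacobian condition

* `jacCond`: `Y = V(G_1..G_d) ⊆ P^{n+d}` smooth of relative dimension `n` satisfies `JacCond`.
* `le_height_ci`: the ideal `(G_1..G_d)` has height at least `d`.
* `exists_rightInverse_of_locally`: `C = k[x]/(g)` locally standard smooth of relative dimension `r - d`: the Jacobian
  matrix has a right inverse over `C`.
* `exists_rightInverse_chart`: the case of `C = Γ(Y, Y ∩ D_+(T_j))`.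
* `exists_rightInverse_dehom`: `∑_l (∂g_m/∂x_l) B_{l m'} - δ_{m m'} ∈ (g)` in the polynomial ring.
-/

set_option autoImplicit false
universe u

open CategoryTheory AlgebraicGeometry Limits TopologicalSpace Opposite MvPolynomial

namespace Groth.Agent.Lefpen.H718.JacCI

open LefPen Groth.Agent.Lefpen.H718.Chart Groth.Agent.Lefpen.H718.JacRank Groth.Agent.Lefpen.H718.Jac
open Groth.Agent.Lefpen.H718.Reg Groth.Agent.Sga5

theorem exists_rightInverse_of_locally {k C : Type u} [Field k] [CommRing C] [Algebra k C] {r d n : ℕ}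
    (g : Fin d → MvPolynomial (Fin r) k)
    (π : MvPolynomial (Fin r) k →ₐ[k] C) (hr : r = n + d) (hπ : Function.Surjective π)
    (hker : ∀ p, π p = 0 → p ∈ Ideal.span (Set.range g)) (hg : ∀ i, π (g i) = 0)
    (hC : RingHom.Locally (RingHom.IsStandardSmoothOfRelativeDimension n) (algebraMap k C)) :
    ∃ B : Matrix (Fin r) (Fin d) C, (Matrix.of fun i l => π (pderiv l (g i))) * B = 1 := by
  refine Minor.exists_rightInverse _ fun m hm => ?_
  let _ : Algebra k m.ResidueField := ((algebraMap C m.ResidueField).comp (algebraMap k C)).toAlgebra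
  have _ : IsScalarTower k C m.ResidueField := IsScalarTower.of_algebraMap_eq fun _ => rfl
  exact linearIndependent_of_locally (F := m.ResidueField) g π hr hπ hker hg hC

variable {N d : ℕ} {k : Type u} [Field k] {a : Fin d → ℕ} (G : ∀ j : Fin d, Form N k (a j)) {n : ℕ}

theorem jacCond (hN : N = n + d) [SmoothOfRelativeDimension n (yStr G)] : JacCond (fun i => (G i).1) :=
  fun _ _ v hv ⟨j, hj⟩ => linearIndependent_jac v j G hN hv hj

theorem le_height_ci (hN : N = n + d) [SmoothOfRelativeDimension n (yStr G)] :
    (d : ℕ∞) ≤ (Ideal.span (Set.range fun i => (G i).1)).height :=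
  le_height _ (jacCond G hN) (by omega)

theorem toY_dehom (j : Fin (N + 1)) (i : Fin d) : toY G j (ProjChart.dehom N k j (G i).1) = 0 := by
  have : ProjChart.dehom N k j (G i).1 ∈ RingHom.ker (toY G j) := by
    rw [ker_toY]
    exact Ideal.subset_span ⟨i, rfl⟩
  exact this

theorem exists_rightInverse_chart (hN : N = n + d) [SmoothOfRelativeDimension n (yStr G)] (j : Fin (N + 1)) :
    ∃ B : Matrix (Fin N) (Fin d) Γ(Y G, ychart G j),
      (Matrix.of fun i l => toY G j (pderiv l (ProjChart.dehom N k j (G i).1))) * B = 1 := by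
  let _ : Algebra k Γ(Y G, ychart G j) := (strMap G j).toAlgebra
  let π : MvPolynomial (Fin N) k →ₐ[k] Γ(Y G, ychart G j) :=
    { toY G j with commutes' := fun c => rfl }
  exact exists_rightInverse_of_locally (fun i => ProjChart.dehom N k j (G i).1) π hN (toY_surjective G j)
    (fun p hp => by
      have : p ∈ RingHom.ker (toY G j) := hp
      rwa [ker_toY] at this) (toY_dehom G j) (locally_stdSmooth G n j)

theorem exists_rightInverse_dehom (hN : N = n + d) [SmoothOfRelativeDimension n (yStr G)] (j : Fin (N + 1)) :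
    ∃ B : Fin N → Fin d → MvPolynomial (Fin N) k, ∀ m m' : Fin d,
      (∑ l, pderiv l (ProjChart.dehom N k j (G m).1) * B l m') - (if m = m' then 1 else 0) ∈
        Ideal.span (Set.range fun i => ProjChart.dehom N k j (G i).1) := by
  obtain ⟨B, hB⟩ := exists_rightInverse_chart G hN j
  choose B' hB' using fun l m => toY_surjective G j (B l m)
  refine ⟨B', fun m m' => ?_⟩
  rw [← ker_toY, RingHom.mem_ker, map_sub, map_sum]
  have h := congrFun (congrFun hB m) m'
  rw [Matrix.mul_apply] at h
  simp only [map_mul, hB', Matrix.of_apply] at h ⊢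
  rw [h, Matrix.one_apply]
  split_ifs <;> simp

end Groth.Agent.Lefpen.H718.JacCI
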