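import Groth.Agent.Lefpen.H718.Chart
import Mathlib.RingTheory.MvPolynomial.EulerIdentity

/-!
# The homogeneous Jacobian criterion for smooth complete intersections

`linearIndependent_jac`: `Y = V(G_1..G_d) ⊆ P^{n+d}_k` smooth of relative dimension `n`, `v : k[T_0..T_N] → F` a point of
the affine cone over `Y` with values in a field, different from the origin: the gradients of the `G_i` at `v` are
linearly independent.
-/

set_option autoImplicit false
universe u

open CategoryTheory AlgebraicGeometry Limits TopologicalSpace Opposite MvPolynomial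

namespace Groth.Agent.Lefpen.H718.Jac

open LefPen Groth.Agent.Lefpen.H718.Chart Groth.Agent.Lefpen.H718.JacRank
open Groth.Agent.Sga5

variable {N d : ℕ} {k : Type u} [Field k]

theorem pderiv_dehom (j : Fin (N + 1)) (l : Fin N) (p : MvPolynomial (Fin (N + 1)) k) :
    pderiv l (ProjChart.dehom N k j p) = ProjChart.dehom N k j (pderiv (j.succAbove l) p) := by
  induction p using MvPolynomial.induction_on with
  | C c => simp
  | add p q hp hq => simp only [map_add, hp, hq]
  | mul_X p i hp =>
    rw [map_mul, Derivation.leibniz, Derivation.leibniz, map_add, hp, smul_eq_mul, smul_eq_mul, smul_eq_mul,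
      smul_eq_mul, map_mul, map_mul]
    congr 2
    obtain rfl | ⟨m, rfl⟩ := Fin.eq_self_or_eq_succAbove j i
    · rw [ProjChart.dehom_X_self, Derivation.map_one_eq_zero, pderiv_X_of_ne, map_zero]
      exact (Fin.succAbove_ne _ _).symm
    · rw [ProjChart.dehom_X]
      by_cases hm : m = l
      · subst hm; simp
      · rw [pderiv_X_of_ne hm, pderiv_X_of_ne, map_zero]
        exact fun h => hm (Fin.succAbove_right_injective h)

variable {F : Type u} [Field F] (v : MvPolynomial (Fin (N + 1)) k →+* F) (j : Fin (N + 1))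

/-- The affine coordinates of a point of projective space. -/
noncomputable def aff : MvPolynomial (Fin N) k →+* F :=
  eval₂Hom (v.comp C) (fun l => v (X (j.succAbove l)) / v (X j))

theorem eval_eq (hj : v (X j) ≠ 0) (D : ℕ) (p : MvPolynomial (Fin (N + 1)) k) (hp : p.IsHomogeneous D) :
    v p = v (X j) ^ D * aff v j (ProjChart.dehom N k j p) := by
  have h1 : (aff v j).comp (ProjChart.dehom N k j) = eval₂Hom (v.comp C) (fun l => v (X l) / v (X j)) := by
    apply MvPolynomial.ringHom_ext
    · intro c
      simp [aff]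
    · intro i
      obtain rfl | ⟨m, rfl⟩ := Fin.eq_self_or_eq_succAbove j i
      · simp [div_self hj]
      · simp [aff]
  change v p = v (X j) ^ D * ((aff v j).comp (ProjChart.dehom N k j)) p
  rw [h1, coe_eval₂Hom, eval₂_eq', Finset.mul_sum]
  conv_lhs => rw [p.as_sum, map_sum]
  apply Finset.sum_congr rfl
  intro s hs
  have hd : ∑ j, s j = D := by
    have := hp (mem_support_iff.1 hs)
    rw [← this, Finsupp.weight_apply, Finsupp.sum_fintype _ _ (by simp)]
    simp
  rw [← hd, ← Finset.prod_pow_eq_pow_sum, mul_left_comm, ← Finset.prod_mul_distrib]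
  rw [monomial_eq, Finsupp.prod_fintype _ _ (by simp), map_mul, map_prod, RingHom.comp_apply]
  congr 1
  apply Finset.prod_congr rfl
  intro i _
  rw [← mul_pow, mul_div_cancel₀ _ hj, map_pow]

theorem linearIndependent_jac {a : Fin d → ℕ} (G : ∀ j : Fin d, Form N k (a j)) {n : ℕ} (hN : N = n + d)
    [SmoothOfRelativeDimension n (yStr G)] (hG : ∀ i, v (G i).1 = 0) (hj : v (X j) ≠ 0) :
    LinearIndependent F (fun i : Fin d => fun l : Fin (N + 1) => v (pderiv l (G i).1)) := by
  have hG' : ∀ i, aff v j (ProjChart.dehom N k j (G i).1) = 0 := by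
    intro i
    have h := eval_eq v j hj (a i) (G i).1 (G i).2
    rw [hG] at h
    exact (mul_eq_zero.1 h.symm).resolve_left (pow_ne_zero _ hj)
  have hker : RingHom.ker (toY G j) ≤ RingHom.ker (aff v j) := by
    rw [ker_toY, Ideal.span_le]
    rintro _ ⟨i, rfl⟩
    exact hG' i
  let ψ : Γ(Y G, ychart G j) →+* F := RingHom.liftOfSurjective (toY G j) (toY_surjective G j) ⟨aff v j, hker⟩
  have hψ : ∀ p, ψ (toY G j p) = aff v j p := fun p =>
    RingHom.liftOfRightInverse_comp_apply (toY G j) _ _ ⟨aff v j, hker⟩ p
  let _ : Algebra k Γ(Y G, ychart G j) := (strMap G j).toAlgebra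
  let _ : Algebra Γ(Y G, ychart G j) F := ψ.toAlgebra
  let _ : Algebra k F := (v.comp C).toAlgebra
  have _ : IsScalarTower k Γ(Y G, ychart G j) F := IsScalarTower.of_algebraMap_eq fun c => by
    change v (C c) = ψ (toY G j (C c))
    rw [hψ, aff, coe_eval₂Hom, eval₂_C]
    rfl
  let π : MvPolynomial (Fin N) k →ₐ[k] Γ(Y G, ychart G j) :=
    { toY G j with commutes' := fun c => rfl }
  have hπ : ∀ p, π p = toY G j p := fun p => rfl
  have key := linearIndependent_of_locally (F := F) (fun i => ProjChart.dehom N k j (G i).1) π hN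
    (toY_surjective G j) (fun p hp => by
      have : p ∈ RingHom.ker (toY G j) := hp
      rwa [ker_toY] at this) (fun i => by
      have : ProjChart.dehom N k j (G i).1 ∈ RingHom.ker (toY G j) := by
        rw [ker_toY]
        exact Ideal.subset_span ⟨i, rfl⟩
      exact this) (locally_stdSmooth G n j)
  rw [Fintype.linearIndependent_iff] at key ⊢
  intro c hc i
  have h1 : ∀ i l, v (pderiv (j.succAbove l) (G i).1) = v (X j) ^ (a i - 1) *
      jac (fun i => ProjChart.dehom N k j (G i).1) π F i l := by
    intro i l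
    rw [eval_eq v j hj (a i - 1) _ (IsHomogeneous.pderiv (G i).2), ← pderiv_dehom]
    congr 1
    exact (hψ _).symm
  have h2 := key (fun i => c i * v (X j) ^ (a i - 1)) (by
    funext l
    have h3 := congrFun hc (j.succAbove l)
    simp only [Finset.sum_apply, Pi.smul_apply, smul_eq_mul, Pi.zero_apply] at h3 ⊢
    rw [← h3]
    refine Finset.sum_congr rfl fun i _ => ?_
    rw [h1, mul_assoc]
    rfl) i
  exact (mul_eq_zero.1 h2).resolve_right (pow_ne_zero _ hj)

end Groth.Agent.Lefpen.H718.Jac
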