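import Groth.Agent.Lefpen.H718.ConeCM
import Mathlib.Algebra.Polynomial.Reverse
import Mathlib.RingTheory.PowerSeries.Inverse
import Mathlib.RingTheory.LocalProperties.IntegrallyClosed
import Mathlib.RingTheory.Localization.AtPrime.Basic

/-!
# The grading of the cone ring through the coaction `δ : A → A[t]`, `T_j ↦ T_j t`

* `delta`, `Homog D a : δ a = a t^D`, `homog_iff`: images of forms of degree `D`.
* `isDomain`, `isIntegrallyClosed`: the cone ring of a smooth complete intersection of dimension `n ≥ 1` is a normal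
  domain.
* `exists_root`: a homogeneous `f ≠ 0` congruent to an `l`-th power modulo a high power of the irrelevant ideal is the
  `l`-th power of a homogeneous element.
-/

set_option autoImplicit false
universe u

open MvPolynomial IsLocalRing
open scoped Polynomial

namespace Groth.Agent.Lefpen.H718.Grade

open Groth.Agent.Lefpen.H718.Reg Groth.Agent.Lefpen.H718.ConeCM

section Aux

variable {R : Type*} [CommRing R]

theorem aux_pow (x : R) (D n : ℕ) :
    (Polynomial.C x * Polynomial.X ^ D : R[X]) ^ n = Polynomial.C (x ^ n) * Polynomial.X ^ (n * D) := by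
  rw [mul_pow, ← Polynomial.C_pow, ← pow_mul, mul_comm n D]

theorem aux_pow' (x : R) (n : ℕ) :
    (Polynomial.C x * Polynomial.X : R[X]) ^ n = Polynomial.C (x ^ n) * Polynomial.X ^ n := by
  rw [mul_pow, ← Polynomial.C_pow]

theorem aux_dvd {B : Type*} [CommRing B] (φ : B →+* R[X]) (I : Ideal B) (h : I.map φ ≤ Ideal.span {Polynomial.X})
    (M : ℕ) (x : B) (hx : x ∈ I ^ M) : (Polynomial.X ^ M : R[X]) ∣ φ x := by
  have h2 := Ideal.mem_map_of_mem φ hx
  rw [Ideal.map_pow] at h2
  have h3 := Ideal.pow_right_mono h M h2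
  rwa [Ideal.span_singleton_pow, Ideal.mem_span_singleton] at h3

end Aux

variable {k : Type u} [Field k] {N d : ℕ} (g : Fin d → MvPolynomial (Fin (N + 1)) k)

/-- The quotient map. -/
noncomputable abbrev mk : MvPolynomial (Fin (N + 1)) k →+* A g := Ideal.Quotient.mk (Ideal.span (Set.range g))

/-- `T_j ↦ T_j t` on the polynomial ring. -/
noncomputable def deltaS : MvPolynomial (Fin (N + 1)) k →+* (A g)[X] :=
  eval₂Hom (Polynomial.C.comp ((mk g).comp C)) (fun j => Polynomial.C (mk g (MvPolynomial.X j)) * Polynomial.X)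

theorem deltaS_monomial (s : Fin (N + 1) →₀ ℕ) (c : k) :
    deltaS g (monomial s c) = Polynomial.C (mk g (monomial s c)) * Polynomial.X ^ s.degree := by
  rw [deltaS, coe_eval₂Hom, eval₂_monomial, monomial_eq, map_mul, map_mul, Finsupp.prod, Finsupp.prod]
  rw [RingHom.comp_apply, RingHom.comp_apply, mul_assoc]
  congr 1
  have h1 : ∀ j ∈ s.support, (Polynomial.C (mk g (MvPolynomial.X j)) * Polynomial.X : (A g)[X]) ^ s j =
      Polynomial.C (mk g (MvPolynomial.X j ^ s j)) * Polynomial.X ^ s j := by
    intro j _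
    rw [map_pow]
    exact aux_pow' _ _
  rw [Finset.prod_congr rfl h1, Finset.prod_mul_distrib, ← map_prod, ← map_prod, Finset.prod_pow_eq_pow_sum]
  rfl

theorem deltaS_homog {D : ℕ} {p : MvPolynomial (Fin (N + 1)) k} (hp : p.IsHomogeneous D) :
    deltaS g p = Polynomial.C (mk g p) * Polynomial.X ^ D := by
  rw [p.as_sum, map_sum, map_sum, map_sum, Finset.sum_mul]
  refine Finset.sum_congr rfl fun s hs => ?_
  rw [deltaS_monomial]
  congr 2
  have := hp (mem_support_iff.1 hs)
  rw [← this, Finsupp.weight_apply, Finsupp.degree_apply, Finsupp.sum]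
  simp

theorem deltaS_coeff (p : MvPolynomial (Fin (N + 1)) k) (D : ℕ) :
    (deltaS g p).coeff D = mk g (homogeneousComponent D p) := by
  have h1 : p = ∑ i ∈ Finset.range (max p.totalDegree D + 1), homogeneousComponent i p := by
    conv_lhs => rw [← sum_homogeneousComponent p]
    refine Finset.sum_subset ?_ ?_
    · intro i hi
      rw [Finset.mem_range] at hi ⊢
      omega
    · intro i _ hi
      rw [Finset.mem_range, not_lt] at hi
      exact homogeneousComponent_eq_zero _ _ (by omega)
  conv_lhs => rw [h1, map_sum, Polynomial.finsetSum_coeff]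
  rw [Finset.sum_eq_single D]
  · rw [deltaS_homog g (homogeneousComponent_isHomogeneous D p), Polynomial.coeff_C_mul,
      Polynomial.coeff_X_pow_self, mul_one]
  · intro i _ hi
    rw [deltaS_homog g (homogeneousComponent_isHomogeneous i p), Polynomial.coeff_C_mul,
      Polynomial.coeff_X_pow, if_neg hi.symm, mul_zero]
  · intro h
    exfalso
    apply h
    rw [Finset.mem_range]
    omega

variable {a : Fin d → ℕ} (hh : ∀ i, (g i).IsHomogeneous (a i))

include hh in
theorem deltaS_ker : ∀ p ∈ Ideal.span (Set.range g), deltaS g p = 0 := by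
  have : Ideal.span (Set.range g) ≤ RingHom.ker (deltaS g) := by
    rw [Ideal.span_le]
    rintro _ ⟨i, rfl⟩
    have h0 : mk g (g i) = 0 := Ideal.Quotient.eq_zero_iff_mem.2 (Ideal.subset_span ⟨i, rfl⟩)
    change deltaS g (g i) = 0
    rw [deltaS_homog g (hh i), h0, map_zero, zero_mul]
  exact this

/-- The coaction `A → A[t]`. -/
noncomputable def delta : A g →+* (A g)[X] := Ideal.Quotient.lift _ (deltaS g) (deltaS_ker g hh)

theorem delta_mk (p : MvPolynomial (Fin (N + 1)) k) : delta g hh (mk g p) = deltaS g p := rfl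

theorem eval_delta (x : A g) : (delta g hh x).eval 1 = x := by
  obtain ⟨p, rfl⟩ := Ideal.Quotient.mk_surjective x
  have h : (Polynomial.evalRingHom (1 : A g)).comp (deltaS g) = mk g := by
    apply MvPolynomial.ringHom_ext
    · intro c
      simp [deltaS]
    · intro j
      simp [deltaS]
  exact congr($h p)

theorem delta_injective : Function.Injective (delta g hh) := fun x y h => by
  rw [← eval_delta g hh x, h, eval_delta]

/-- Homogeneous elements of degree `D`. -/
def Homog (D : ℕ) (x : A g) : Prop := delta g hh x = Polynomial.C x * Polynomial.X ^ D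

theorem homog_mk {D : ℕ} {p : MvPolynomial (Fin (N + 1)) k} (hp : p.IsHomogeneous D) : Homog g hh D (mk g p) :=
  deltaS_homog g hp

theorem exists_lift_coeff (x : A g) (D : ℕ) :
    ∃ p : MvPolynomial (Fin (N + 1)) k, p.IsHomogeneous D ∧ mk g p = (delta g hh x).coeff D := by
  obtain ⟨p, rfl⟩ := Ideal.Quotient.mk_surjective x
  exact ⟨homogeneousComponent D p, homogeneousComponent_isHomogeneous D p, (deltaS_coeff g p D).symm⟩

theorem homog_iff {D : ℕ} {x : A g} :
    Homog g hh D x ↔ ∃ p : MvPolynomial (Fin (N + 1)) k, p.IsHomogeneous D ∧ mk g p = x := by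
  constructor
  · intro h
    obtain ⟨p, hp, h1⟩ := exists_lift_coeff g hh x D
    refine ⟨p, hp, ?_⟩
    rw [h1, h, Polynomial.coeff_C_mul, Polynomial.coeff_X_pow_self, mul_one]
  · rintro ⟨p, hp, rfl⟩
    exact homog_mk g hh hp

theorem homog_coeff (x : A g) (D : ℕ) : Homog g hh D ((delta g hh x).coeff D) := by
  obtain ⟨p, hp, h1⟩ := exists_lift_coeff g hh x D
  rw [← h1]
  exact homog_mk g hh hp

theorem Homog.mul {D E : ℕ} {x y : A g} (hx : Homog g hh D x) (hy : Homog g hh E y) :
    Homog g hh (D + E) (x * y) := by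
  rw [Homog, map_mul, hx, hy, map_mul, pow_add]
  ring

theorem Homog.pow {D : ℕ} {x : A g} (hx : Homog g hh D x) (n : ℕ) : Homog g hh (n * D) (x ^ n) := by
  have h := hx
  rw [Homog] at h ⊢
  rw [map_pow, h]
  exact aux_pow _ _ _

theorem homog_one : Homog g hh 0 (1 : A g) := by
  rw [Homog]; simp

theorem delta_coeff_zero_unit (s : A g) (hs : s ∉ irr g) : IsUnit ((delta g hh s).coeff 0) := by
  obtain ⟨p, rfl⟩ := Ideal.Quotient.mk_surjective s
  have h1 : (delta g hh (mk g p)).coeff 0 = mk g (homogeneousComponent 0 p) := deltaS_coeff g p 0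
  have h2 : (delta g hh (Ideal.Quotient.mk (Ideal.span (Set.range g)) p)).coeff 0 =
      mk g (homogeneousComponent 0 p) := h1
  rw [h2, homogeneousComponent_zero]
  have hne : coeff 0 p ≠ 0 := by
    intro h0
    apply hs
    have h3 : p ∈ Ideal.span (Set.range X) := by
      rw [span_X_eq_ker, RingHom.mem_ker, constantCoeff_eq]
      exact h0
    exact Ideal.mem_map_of_mem _ h3
  exact ((IsUnit.mk0 _ hne).map C).map (mk g)

theorem isUnit_of_coeff_zero {R : Type*} [CommRing R] (P Q : R[X]) (h : IsUnit (P.coeff 0)) (hPQ : P * Q = 0) :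
    Q = 0 := by
  have h1 : IsUnit (P : PowerSeries R) := by
    rw [PowerSeries.isUnit_iff_constantCoeff]
    simpa using h
  have h2 : (P : PowerSeries R) * (Q : PowerSeries R) = 0 := by
    rw [← Polynomial.coe_mul, hPQ, Polynomial.coe_zero]
  have h3 : (Q : PowerSeries R) = 0 := (h1.mul_right_eq_zero).1 h2
  exact Polynomial.coe_eq_zero_iff.1 h3

include hh in
theorem eq_zero_of_mul (s x : A g) (hs : s ∉ irr g) (h : s * x = 0) : x = 0 := by
  apply delta_injective g hh
  rw [map_zero]
  refine isUnit_of_coeff_zero (delta g hh s) _ (delta_coeff_zero_unit g hh s hs) ?_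
  rw [← map_mul, h, map_zero]

include hh in
theorem algebraMap_injective [hp : (irr g).IsPrime] :
    Function.Injective (algebraMap (A g) (Localization.AtPrime (irr g))) := by
  rw [injective_iff_map_eq_zero]
  intro x hx
  obtain ⟨s, hs⟩ := (IsLocalization.map_eq_zero_iff (irr g).primeCompl _ x).1 hx
  exact eq_zero_of_mul g hh s x s.2 hs

section

variable (hg : ∀ i, constantCoeff (g i) = 0) (hJ : JacCond g) {n : ℕ} (hN : N = n + d) (hn : 1 ≤ n)

include hg hJ hN hn hh

/-- The cone ring is a domain. -/
theorem isDomain : IsDomain (A g) := by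
  have hm := isMaximal_irr g hg
  have hp : (irr g).IsPrime := hm.isPrime
  have h1 := (normal_localization g hg hJ hN hn (irr g)).1
  exact (algebraMap_injective g hh).isDomain (algebraMap (A g) (Localization.AtPrime (irr g)))

theorem isIntegrallyClosed : IsIntegrallyClosed (A g) := by
  have := isDomain g hh hg hJ hN hn
  refine IsIntegrallyClosed.of_localization_maximal fun p _ hp => ?_
  exact (normal_localization g hg hJ hN hn p).2

end

section Root

theorem natTrailingDegree_pow {R : Type*} [CommRing R] [IsDomain R] (P : R[X]) (hP : P ≠ 0) (l : ℕ) :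
    (P ^ l).natTrailingDegree = l * P.natTrailingDegree := by
  induction l with
  | zero => simp
  | succ l ih => rw [pow_succ, Polynomial.natTrailingDegree_mul (pow_ne_zero _ hP) hP, ih, add_mul, one_mul]

theorem trailingCoeff_one {R : Type*} [CommRing R] [IsDomain R] : (1 : R[X]).trailingCoeff = 1 := by
  rw [Polynomial.trailingCoeff, Polynomial.natTrailingDegree_one, Polynomial.coeff_one_zero]

theorem trailingCoeff_pow {R : Type*} [CommRing R] [IsDomain R] (P : R[X]) (l : ℕ) :
    (P ^ l).trailingCoeff = P.trailingCoeff ^ l := by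
  induction l with
  | zero => rw [pow_zero, pow_zero, trailingCoeff_one]
  | succ l ih => rw [pow_succ, Polynomial.trailingCoeff_mul, ih, pow_succ]

theorem delta_mem_pow (M : ℕ) (x : A g) (hx : x ∈ irr g ^ M) :
    (Polynomial.X ^ M : (A g)[X]) ∣ delta g hh x := by
  have h1 : (irr g).map (delta g hh) ≤ Ideal.span {Polynomial.X} := by
    rw [irr, Ideal.map_map, Ideal.map_span, Ideal.span_le]
    rintro _ ⟨_, ⟨j, rfl⟩, rfl⟩
    change deltaS g (X j) ∈ Ideal.span {Polynomial.X}
    rw [deltaS, coe_eval₂Hom, eval₂_X]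
    exact Ideal.mul_mem_left _ _ (Ideal.subset_span rfl)
  exact aux_dvd (delta g hh) (irr g) h1 M x hx

/-- A homogeneous element congruent to an `l`-th power is an `l`-th power. -/
theorem exists_root [IsDomain (A g)] (f : A g) (D : ℕ) (hf : Homog g hh D f) (hf0 : f ≠ 0) (l : ℕ)
    (M : ℕ) (hM : D < M) (z : A g) (hz : f - z ^ l ∈ irr g ^ M) :
    ∃ (e : ℕ) (w : A g), Homog g hh e w ∧ l * e = D ∧ f = w ^ l := by
  obtain ⟨Q, hQ⟩ := delta_mem_pow g hh M _ hz
  rw [map_sub, map_pow, hf] at hQ
  have h1 : ∀ i < M, ((delta g hh z) ^ l).coeff i = (Polynomial.C f * Polynomial.X ^ D).coeff i := by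
    intro i hi
    have h2 : (Polynomial.C f * Polynomial.X ^ D - (delta g hh z) ^ l).coeff i = 0 := by
      rw [hQ, Polynomial.coeff_X_pow_mul', if_neg (by omega)]
    rw [Polynomial.coeff_sub, sub_eq_zero] at h2
    exact h2.symm
  have hD : ((delta g hh z) ^ l).coeff D = f := by
    rw [h1 D hM, Polynomial.coeff_C_mul, Polynomial.coeff_X_pow_self, mul_one]
  have hlt : ∀ i < D, ((delta g hh z) ^ l).coeff i = 0 := by
    intro i hi
    rw [h1 i (hi.trans hM), Polynomial.coeff_C_mul, Polynomial.coeff_X_pow, if_neg hi.ne, mul_zero]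
  have hne : (delta g hh z) ^ l ≠ 0 := by
    intro h0
    rw [h0, Polynomial.coeff_zero] at hD
    exact hf0 hD.symm
  have htd : ((delta g hh z) ^ l).natTrailingDegree = D := by
    apply le_antisymm
    · exact Polynomial.natTrailingDegree_le_of_ne_zero (by rw [hD]; exact hf0)
    · exact Polynomial.le_natTrailingDegree hne hlt
  have htc : ((delta g hh z) ^ l).trailingCoeff = f := by
    rw [Polynomial.trailingCoeff, htd, hD]
  by_cases hP : delta g hh z = 0
  · rcases Nat.eq_zero_or_pos l with rfl | hl
    · rw [pow_zero] at htd htc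
      rw [Polynomial.natTrailingDegree_one] at htd
      refine ⟨0, 1, homog_one g hh, by omega, ?_⟩
      rw [← htc, trailingCoeff_one, pow_zero]
    · rw [hP, zero_pow hl.ne'] at hne
      exact absurd rfl hne
  · refine ⟨(delta g hh z).natTrailingDegree, (delta g hh z).trailingCoeff, homog_coeff g hh z _, ?_, ?_⟩
    · rw [← natTrailingDegree_pow _ hP, htd]
    · rw [← trailingCoeff_pow, htc]

end Root

end Groth.Agent.Lefpen.H718.Grade
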