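import Mathlib.RingTheory.Smooth.StandardSmoothCotangent
import Mathlib.RingTheory.RingHom.StandardSmooth
import Mathlib.RingTheory.RingHom.Locally
import Mathlib.RingTheory.Etale.Kaehler
import Mathlib.Algebra.MvPolynomial.PDeriv
import Mathlib.LinearAlgebra.Matrix.Rank

/-!
# The rank of the Jacobian matrix of a standard smooth algebra at a point

* `exists_forms`: `C[1/t]` standard smooth of relative dimension `n` over `k`, `C → F` a field with `t ≠ 0` in `F`:
  there are `n` differentials of `C` detecting all maps `Ω[C⁄k] → F`.
* `linearIndependent_rows`: `C = k[x_1..x_r]/(g_1..g_d)`, `r = n + d`: the rows of the Jacobian matrix are linearly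
  independent in `F`.
* `linearIndependent_of_locally`: the same when `k → C` is locally standard smooth of relative dimension `n`.
-/

set_option autoImplicit false
universe u

open MvPolynomial KaehlerDifferential

namespace Groth.Agent.Lefpen.H718.JacRank

variable {k C F : Type u} [Field k] [CommRing C] [Algebra k C] [Field F] [Algebra k F] [Algebra C F]
  [IsScalarTower k C F]

theorem exists_forms (n : ℕ) (t : C) (ht : algebraMap C F t ≠ 0)
    (h : Algebra.IsStandardSmoothOfRelativeDimension n k (Localization.Away t)) :
    ∃ β : Fin n → Ω[C⁄k], ∀ φ : Ω[C⁄k] →ₗ[C] F, (∀ i, φ (β i) = 0) → φ = 0 := by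
  let T := Localization.Away t
  let θ : T →+* F := IsLocalization.Away.lift (S := T) t (g := algebraMap C F) (IsUnit.mk0 _ ht)
  have hT : Nontrivial T := θ.domain_nontrivial
  have h2 : Algebra.IsStandardSmooth k T := h.isStandardSmooth
  have hrank := Algebra.IsStandardSmoothOfRelativeDimension.rank_kaehlerDifferential (R := k) (S := T) n
  have hfin : Module.finrank T Ω[T⁄k] = n := by
    rw [Module.finrank, hrank]; simp
  let b : Module.Basis (Fin n) T Ω[T⁄k] := Module.finBasisOfFinrankEq T _ hfin
  have hloc : IsLocalizedModule (Submonoid.powers t) (map k k C T) := inferInstance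
  have hs : ∀ i, ∃ x : Ω[C⁄k] × Submonoid.powers t, x.2 • b i = map k k C T x.1 := fun i =>
    IsLocalizedModule.surj (Submonoid.powers t) (map k k C T) (b i)
  choose x hx using hs
  refine ⟨fun i => (x i).1, fun φ hφ => ?_⟩
  have hunit : ∀ y : Submonoid.powers t, IsUnit (algebraMap C (Module.End C F) y) := by
    rintro ⟨_, m, rfl⟩
    rw [map_pow]
    refine IsUnit.pow m ?_
    rw [Module.End.isUnit_iff]
    constructor
    · intro a b hab
      have : algebraMap C F t * a = algebraMap C F t * b := by
        simpa [Algebra.smul_def] using hab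
      exact mul_left_cancel₀ ht this
    · intro a
      refine ⟨(algebraMap C F t)⁻¹ * a, ?_⟩
      rw [Module.algebraMap_end_apply, Algebra.smul_def, ← mul_assoc, mul_inv_cancel₀ ht, one_mul]
  have hunit' : ∀ (y : Submonoid.powers t) (a : F), y • a = 0 → a = 0 := by
    intro y a hya
    have h1 := (Module.End.isUnit_iff _).1 (hunit y)
    apply h1.1
    rw [map_zero]
    exact hya
  let φ' : Ω[T⁄k] →ₗ[C] F := IsLocalizedModule.lift (Submonoid.powers t) (map k k C T) φ hunit
  have hφ' : ∀ w, φ' (map k k C T w) = φ w := fun w =>
    IsLocalizedModule.lift_apply (Submonoid.powers t) (map k k C T) φ hunit w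
  have h0 : ∀ i, φ' (b i) = 0 := by
    intro i
    apply hunit' (x i).2
    have : φ' ((x i).2 • b i) = (x i).2 • φ' (b i) := φ'.map_smul_of_tower _ _
    rw [← this, hx i, hφ', hφ]
  have h1 : ∀ (c : T) (i : Fin n), φ' (c • b i) = 0 := by
    intro c i
    obtain ⟨⟨a, s⟩, hs⟩ := IsLocalization.surj (Submonoid.powers t) c
    apply hunit' s
    have e1 : φ' (s • (c • b i)) = s • φ' (c • b i) := φ'.map_smul_of_tower _ _
    have e2 : s • (c • b i) = a • b i := by
      rw [Submonoid.smul_def, ← algebraMap_smul T (s : C), ← algebraMap_smul T a, ← mul_smul, mul_comm]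
      rw [hs]
    rw [← e1, e2, map_smul, h0, smul_zero]
  have h3 : ∀ y, φ' y = 0 := by
    intro y
    rw [← b.sum_repr y, map_sum]
    exact Finset.sum_eq_zero fun i _ => h1 _ i
  refine LinearMap.ext fun w => ?_
  rw [← hφ', h3]
  rfl

section rows

variable {r d n : ℕ} (g : Fin d → MvPolynomial (Fin r) k) (π : MvPolynomial (Fin r) k →ₐ[k] C)

/-- The Jacobian matrix with entries in `F`. -/
noncomputable def jac (F : Type u) [Field F] [Algebra C F] : Matrix (Fin d) (Fin r) F :=
  fun i l => algebraMap C F (π (pderiv l (g i)))

variable (F) in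
/-- The derivation `p ↦ ∑ v_l ∂_l p` with values in `F`, as a linear map. -/
noncomputable def del (v : Fin r → F) : MvPolynomial (Fin r) k →ₗ[k] F :=
  ∑ l, (v l) • ((IsScalarTower.toAlgHom k C F).toLinearMap ∘ₗ π.toLinearMap ∘ₗ
    (pderiv (R := k) l).toLinearMap)

theorem del_apply (v : Fin r → F) (p : MvPolynomial (Fin r) k) :
    del F π v p = ∑ l, v l * algebraMap C F (π (pderiv l p)) := by
  simp [del, LinearMap.sum_apply]

theorem del_mul (v : Fin r → F) (p q : MvPolynomial (Fin r) k) :
    del F π v (p * q) = algebraMap C F (π p) * del F π v q + algebraMap C F (π q) * del F π v p := by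
  simp only [del_apply, Finset.mul_sum, ← Finset.sum_add_distrib]
  refine Finset.sum_congr rfl fun l _ => ?_
  rw [Derivation.leibniz, map_add, map_add, smul_eq_mul, smul_eq_mul, map_mul, map_mul, map_mul, map_mul]
  ring

theorem linearIndependent_rows (hr : r ≤ n + d) (hπ : Function.Surjective π)
    (hker : ∀ p, π p = 0 → p ∈ Ideal.span (Set.range g)) (hg : ∀ i, π (g i) = 0)
    (β : Fin n → Ω[C⁄k]) (hβ : ∀ φ : Ω[C⁄k] →ₗ[C] F, (∀ i, φ (β i) = 0) → φ = 0) (hn : n + d ≤ r) :
    LinearIndependent F (jac g π F).row := by
  classical
  let M := jac g π F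
  let V := LinearMap.ker M.mulVecLin
  have hV : ∀ v ∈ V, ∀ i, ∑ l, v l * algebraMap C F (π (pderiv l (g i))) = 0 := by
    intro v hv i
    have := congrFun (LinearMap.mem_ker.1 hv) i
    simp only [Matrix.mulVecLin_apply, Matrix.mulVec, dotProduct, Pi.zero_apply] at this
    rw [← this]
    exact Finset.sum_congr rfl fun l _ => mul_comm _ _
  have hdel : ∀ v ∈ V, ∀ p, π p = 0 → del F π v p = 0 := by
    intro v hv p hp
    have hp' := hker p hp
    clear hp
    induction hp' using Submodule.span_induction with
    | mem x hx =>
      obtain ⟨i, rfl⟩ := hx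
      rw [del_apply]
      exact hV v hv i
    | zero => rw [map_zero]
    | add x y _ _ hx hy => rw [map_add, hx, hy, add_zero]
    | smul a x hx' hx =>
      have hx0 : π x = 0 := by
        have : Ideal.span (Set.range g) ≤ RingHom.ker π := by
          rw [Ideal.span_le]
          rintro _ ⟨i, rfl⟩
          exact hg i
        exact this hx'
      rw [smul_eq_mul, del_mul, hx, hx0, map_zero, mul_zero, zero_mul, add_zero]
  -- the derivation of `C`
  have hsec : ∀ c : C, π (Function.surjInv hπ c) = c := Function.surjInv_eq hπ
  have hdel' : ∀ v ∈ V, ∀ p q, π p = π q → del F π v p = del F π v q := by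
    intro v hv p q hpq
    rw [← sub_eq_zero, ← map_sub]
    exact hdel v hv _ (by rw [map_sub, hpq, sub_self])
  let D : V → Derivation k C F := fun v =>
    { toFun := fun c => del F π v.1 (Function.surjInv hπ c)
      map_add' := fun a b => by
        rw [← map_add]
        exact hdel' v.1 v.2 _ _ (by simp [hsec])
      map_smul' := fun a b => by
        rw [RingHom.id_apply, ← map_smul]
        exact hdel' v.1 v.2 _ _ (by simp [hsec])
      map_one_eq_zero' := by
        change del F π v.1 (Function.surjInv hπ 1) = 0
        have : del F π v.1 (Function.surjInv hπ 1) = del F π v.1 1 :=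
          hdel' v.1 v.2 _ _ (by simp [hsec])
        rw [this, del_apply]
        simp
      leibniz' := fun a b => by
        change del F π v.1 _ = a • del F π v.1 _ + b • del F π v.1 _
        have : del F π v.1 (Function.surjInv hπ (a * b)) =
            del F π v.1 (Function.surjInv hπ a * Function.surjInv hπ b) :=
          hdel' v.1 v.2 _ _ (by simp [hsec])
        rw [this, del_mul, hsec, hsec, Algebra.smul_def, Algebra.smul_def] }
  have hD : ∀ (v : V) p, D v (π p) = del F π v.1 p := fun v p => hdel' v.1 v.2 _ _ (by simp [hsec])
  let Θ : V →ₗ[F] (Fin n → F) :=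
    { toFun := fun v i => (D v).liftKaehlerDifferential (β i)
      map_add' := fun v w => by
        have h1 : D (v + w) = D v + D w := by
          ext c
          obtain ⟨p, rfl⟩ := hπ c
          rw [hD, Derivation.add_apply, hD, hD, del_apply, del_apply, del_apply, ← Finset.sum_add_distrib]
          exact Finset.sum_congr rfl fun l _ => by
            rw [← add_mul]; rfl
        funext i
        change (D (v + w)).liftKaehlerDifferential (β i) = _
        rw [h1]
        have h2 : (D v + D w).liftKaehlerDifferential =
            (D v).liftKaehlerDifferential + (D w).liftKaehlerDifferential := by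
          apply Derivation.liftKaehlerDifferential_unique
          ext c
          simp
        rw [h2]
        rfl
      map_smul' := fun a v => by
        funext i
        have h2 : (D (a • v)).liftKaehlerDifferential =
            a • (D v).liftKaehlerDifferential := by
          apply Derivation.liftKaehlerDifferential_unique
          ext c
          obtain ⟨p, rfl⟩ := hπ c
          change (D (a • v)).liftKaehlerDifferential (KaehlerDifferential.D k C (π p)) =
            a • (D v).liftKaehlerDifferential (KaehlerDifferential.D k C (π p))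
          rw [Derivation.liftKaehlerDifferential_comp_D, Derivation.liftKaehlerDifferential_comp_D, hD, hD,
            del_apply, del_apply, smul_eq_mul, Finset.mul_sum]
          exact Finset.sum_congr rfl fun l _ => by
            rw [← mul_assoc]; rfl
        change (D (a • v)).liftKaehlerDifferential (β i) = _
        rw [h2]
        rfl }
  have hΘ : Function.Injective Θ := by
    rw [injective_iff_map_eq_zero]
    intro v hv
    have h1 : (D v).liftKaehlerDifferential = 0 := hβ _ fun i => congrFun hv i
    have h2 : ∀ c, D v c = 0 := by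
      intro c
      rw [← Derivation.liftKaehlerDifferential_comp_D (D v) c, h1]
      rfl
    apply Subtype.ext
    funext l
    have h3 := h2 (π (X l))
    rw [hD, del_apply, Finset.sum_eq_single l] at h3
    · simpa using h3
    · intro l' _ hl'
      rw [pderiv_X, Pi.single_eq_of_ne (Ne.symm hl')]
      simp
    · simp
  have hle : Module.finrank F V ≤ n := by
    have := LinearMap.finrank_le_finrank_of_injective hΘ
    simpa using this
  have hrk := LinearMap.finrank_range_add_finrank_ker M.mulVecLin
  rw [Module.finrank_fintype_fun_eq_card, Fintype.card_fin] at hrk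
  have hrank : M.rank = d := by
    have h1 : M.rank ≤ d := by simpa using M.rank_le_card_height
    have h2 : M.rank = Module.finrank F (LinearMap.range M.mulVecLin) := rfl
    have h3 : Module.finrank F (LinearMap.ker M.mulVecLin) ≤ n := hle
    omega
  rw [linearIndependent_iff_card_eq_finrank_span, Fintype.card_fin]
  exact hrank.symm.trans M.rank_eq_finrank_span_row

end rows

theorem linearIndependent_of_locally {r d n : ℕ} (g : Fin d → MvPolynomial (Fin r) k)
    (π : MvPolynomial (Fin r) k →ₐ[k] C) (hr : r = n + d) (hπ : Function.Surjective π)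
    (hker : ∀ p, π p = 0 → p ∈ Ideal.span (Set.range g)) (hg : ∀ i, π (g i) = 0)
    (hC : RingHom.Locally (RingHom.IsStandardSmoothOfRelativeDimension n) (algebraMap k C)) :
    LinearIndependent F (jac g π F).row := by
  obtain ⟨s, hs, h⟩ := hC
  obtain ⟨t, hts, ht⟩ : ∃ t ∈ s, algebraMap C F t ≠ 0 := by
    by_contra hcon
    push Not at hcon
    have h1 : Ideal.span s ≤ RingHom.ker (algebraMap C F) := Ideal.span_le.2 hcon
    rw [hs] at h1
    have h2 : (1 : C) ∈ RingHom.ker (algebraMap C F) := h1 trivial
    rw [RingHom.mem_ker, map_one] at h2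
    exact one_ne_zero h2
  have h1 := h t hts
  have h2 : (algebraMap C (Localization.Away t)).comp (algebraMap k C) = algebraMap k (Localization.Away t) :=
    (IsScalarTower.algebraMap_eq _ _ _).symm
  rw [h2, RingHom.isStandardSmoothOfRelativeDimension_algebraMap] at h1
  obtain ⟨β, hβ⟩ := exists_forms (F := F) n t ht h1
  exact linearIndependent_rows g π hr.le hπ hker hg β hβ hr.ge

end Groth.Agent.Lefpen.H718.JacRank
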