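import Groth.Agent.Lefpen.H705.ChartPoly
import Groth.Agent.Lefpen.H718.JacRank

/-!
# The standard affine charts of a complete intersection in projective space

`Y = (LefPen.ciIdeal G).subscheme ⊆ P^N_k`.

* `ychart G j`: the affine open `Y ∩ D_+(T_j)`.
* `toY G j : k[x_1..x_N] → Γ(Y, Y ∩ D_+(T_j))`: surjective, with kernel generated by the dehomogenized forms.
* `toY_C`: compatibility with the structure morphism.
* `locally_stdSmooth`: smoothness of relative dimension `n` in terms of the chart ring.
-/

set_option autoImplicit false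
universe u

open CategoryTheory AlgebraicGeometry Limits TopologicalSpace Opposite

namespace Groth.Agent.Lefpen.H718.Chart

open LefPen Groth.Agent.Divis.IdealComap Groth.Agent.Fdesc.LocGen Groth.Agent.Lefpen.H705.HypIdeal
open Groth.Agent.Lefpen.H705.SecIdeal Groth.Agent.Lefpen.H705.ChartPoly
open Groth.Agent.Sga5

variable {N d : ℕ} {k : Type u} [Field k] {a : Fin d → ℕ} (G : ∀ j : Fin d, Form N k (a j))

/-- The scheme of common zeros. -/
noncomputable abbrev Y : Scheme.{u} := (ciIdeal G).subscheme

/-- The closed immersion. -/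
noncomputable abbrev yι : Y G ⟶ CohB1.ProjSpace N k := (ciIdeal G).subschemeι

/-- The structure morphism. -/
noncomputable abbrev yStr : Y G ⟶ Spec (CommRingCat.of k) := (ciIdeal G).subschemeι ≫ CohB1.ProjSpace.toSpec N k

/-- The chart `Y ∩ D_+(T_j)`. -/
noncomputable abbrev ychart (j : Fin (N + 1)) : (Y G).Opens := yι G ⁻¹ᵁ chart N k j

theorem isClosedImmersion_yι : IsClosedImmersion (yι G) := inferInstance

theorem isAffineOpen_ychart (j : Fin (N + 1)) : IsAffineOpen (ychart G j) :=
  (isAffineOpen_chart j).preimage (yι G)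

theorem ciIdeal_ideal_of_le (j : Fin (N + 1)) (U : (CohB1.ProjSpace N k).affineOpens)
    (hU : U.1 ≤ chart N k j) :
    (ciIdeal G).ideal U = Ideal.span (Set.range fun i => ores hU (dehom (G i) j)) := by
  rw [ciIdeal, Scheme.IdealSheafData.ideal_iSup, iSup_apply]
  simp_rw [hypIdeal_ideal_of_le _ j U hU]
  rw [← Ideal.span_iUnion]
  congr 1
  ext x
  simp [eq_comm]

/-- Polynomials in the affine coordinates as functions on `Y ∩ D_+(T_j)`. -/
noncomputable def toY (j : Fin (N + 1)) : MvPolynomial (Fin N) k →+* Γ(Y G, ychart G j) :=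
  ((yι G).app (chart N k j)).hom.comp (polyToChart j)

theorem toY_surjective (j : Fin (N + 1)) : Function.Surjective (toY G j) :=
  ((ciIdeal G).subschemeι_app_surjective ⟨chart N k j, isAffineOpen_chart j⟩).comp
    (polyToChart_bijective j).2

theorem ker_toY (j : Fin (N + 1)) :
    RingHom.ker (toY G j) = Ideal.span (Set.range fun i => ProjChart.dehom N k j (G i).1) := by
  have h1 : RingHom.ker ((yι G).app (chart N k j)).hom = Ideal.span (Set.range fun i => dehom (G i) j) := by
    have h2 := (ciIdeal G).ker_subschemeι_app ⟨chart N k j, isAffineOpen_chart j⟩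
    rw [ciIdeal_ideal_of_le G j _ le_rfl] at h2
    refine h2.trans ?_
    congr 3
  have h4 : RingHom.ker (toY G j) = Ideal.comap (polyToChart j) (RingHom.ker ((yι G).app (chart N k j)).hom) := rfl
  rw [h4, h1]
  have h3 : Ideal.span (Set.range fun i => dehom (G i) j) =
      Ideal.map (polyToChart j) (Ideal.span (Set.range fun i => ProjChart.dehom N k j (G i).1)) := by
    rw [Ideal.map_span, ← Set.range_comp]
    congr 2
    funext i
    exact dehom_eq (G i) j
  rw [h3, Ideal.comap_map_of_bijective _ (polyToChart_bijective j)]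

theorem appLE_chart_injective (j : Fin (N + 1)) : Function.Injective
    ((ProjSmooth.chart N k j).appLE (LefPen.chart N k j) ⊤ (top_le_preimage j)).hom := by
  intro x y hxy
  obtain ⟨p, rfl⟩ := (polyToChart_bijective j).2 x
  obtain ⟨q, rfl⟩ := (polyToChart_bijective j).2 y
  rw [chart_appLE_polyToChart, chart_appLE_polyToChart] at hxy
  have h := (ConcreteCategory.bijective_of_isIso
    (Scheme.ΓSpecIso (CommRingCat.of (MvPolynomial (Fin N) k))).inv).1 hxy
  rw [h]

theorem appLE_top_eq {X Z : Scheme.{u}} (p q : X ⟶ Z) (h : p = q) (e : (⊤ : X.Opens) ≤ p ⁻¹ᵁ ⊤) :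
    p.appLE ⊤ ⊤ e = q.appTop := by
  subst h
  exact (Scheme.Hom.app_eq_appLE p).symm

theorem toSpec_appLE (j : Fin (N + 1)) (c : k) :
    ((CohB1.ProjSpace.toSpec N k).appLE ⊤ (chart N k j) le_top).hom
      ((Scheme.ΓSpecIso (CommRingCat.of k)).inv.hom c) = polyToChart j (MvPolynomial.C c) := by
  apply appLE_chart_injective j
  rw [chart_appLE_polyToChart]
  have h1 := Scheme.Hom.appLE_comp_appLE (ProjSmooth.chart N k j) (CohB1.ProjSpace.toSpec N k)
    ⊤ (chart N k j) ⊤ le_top (top_le_preimage j)
  have h2 := congr($(h1).hom ((Scheme.ΓSpecIso (CommRingCat.of k)).inv.hom c))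
  refine h2.trans ?_
  rw [appLE_top_eq _ _ (ProjSmooth.chart_toSpec N k j)]
  exact congr($(Scheme.ΓSpecIso_inv_naturality (CommRingCat.ofHom (MvPolynomial.C : k →+* MvPolynomial (Fin N) k))).hom c).symm

theorem yStr_appLE (j : Fin (N + 1)) (c : k) :
    ((yStr G).appLE ⊤ (ychart G j) le_top).hom ((Scheme.ΓSpecIso (CommRingCat.of k)).inv.hom c) =
      toY G j (MvPolynomial.C c) := by
  have h1 := Scheme.Hom.appLE_comp_appLE (yι G) (CohB1.ProjSpace.toSpec N k)
    ⊤ (chart N k j) (ychart G j) le_top le_rfl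
  have h2 := congr($(h1).hom ((Scheme.ΓSpecIso (CommRingCat.of k)).inv.hom c))
  refine h2.symm.trans ?_
  change ((yι G).appLE (chart N k j) (ychart G j) le_rfl).hom
    (((CohB1.ProjSpace.toSpec N k).appLE ⊤ (chart N k j) le_top).hom
      ((Scheme.ΓSpecIso (CommRingCat.of k)).inv.hom c)) = _
  rw [toSpec_appLE, ← Scheme.Hom.app_eq_appLE]
  rfl

/-- The structure map of the chart ring of `Y`. -/
noncomputable def strMap (j : Fin (N + 1)) : k →+* Γ(Y G, ychart G j) := (toY G j).comp MvPolynomial.C

theorem locally_stdSmooth (n : ℕ) [SmoothOfRelativeDimension n (yStr G)] (j : Fin (N + 1)) :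
    RingHom.Locally (RingHom.IsStandardSmoothOfRelativeDimension n) (strMap G j) := by
  have h1 : RingHom.Locally (RingHom.IsStandardSmoothOfRelativeDimension n)
      ((yStr G).appLE ⊤ (ychart G j) le_top).hom :=
    HasRingHomProperty.appLE (P := @SmoothOfRelativeDimension n) (yStr G) inferInstance
      ⟨⊤, isAffineOpen_top _⟩ ⟨ychart G j, isAffineOpen_ychart G j⟩ le_top
  have h2 : strMap G j = ((yStr G).appLE ⊤ (ychart G j) le_top).hom.comp
      (Scheme.ΓSpecIso (CommRingCat.of k)).commRingCatIsoToRingEquiv.symm.toRingHom := by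
    ext c
    exact (yStr_appLE G j c).symm
  rw [h2]
  exact (RingHom.locally_respectsIso RingHom.isStandardSmoothOfRelativeDimension_respectsIso).2 _ _ h1

end Groth.Agent.Lefpen.H718.Chart
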