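import Groth.Agent.Lefpen.H718.Grade
import Groth.Agent.Lefpen.H718.JacCI

/-!
# Frame for S4037: `LocPow`, reduction to prime exponents

`LocPow g l f`: away from the origin of the cone, `f` is locally a unit times an `l`-th power of the fraction field.
`root_of_prime`: if every homogeneous `f` with `LocPow g l f`, `l` prime, is an `l`-th power then the same holds for all
`l ≥ 1` (with a homogeneous root).
-/

set_option autoImplicit false
universe u

open MvPolynomial IsLocalRing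

namespace Groth.Agent.Lefpen.H718.Frame

open Groth.Agent.Lefpen.H718.Reg Groth.Agent.Lefpen.H718.ConeCM Groth.Agent.Lefpen.H718.Grade

variable {k : Type u} [Field k] {N d : ℕ} (g : Fin d → MvPolynomial (Fin (N + 1)) k)

/-- Away from the origin, `f` is locally a unit times an `l`-th power of the fraction field. -/
def LocPow (l : ℕ) (f : A g) : Prop :=
  ∀ q : Ideal (A g), q.IsPrime → q ≠ irr g → ∃ u a b : A g, u ∉ q ∧ b ≠ 0 ∧ f * b ^ l = u * a ^ l

variable {a : Fin d → ℕ} (hh : ∀ i, (g i).IsHomogeneous (a i))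

/-- A root of a homogeneous element is homogeneous. -/
theorem homog_root [IsDomain (A g)] {f : A g} {D : ℕ} (hf : Homog g hh D f) (hf0 : f ≠ 0) {l : ℕ} {w : A g}
    (h : f = w ^ l) : ∃ (e : ℕ) (w : A g), Homog g hh e w ∧ l * e = D ∧ f = w ^ l :=
  exists_root g hh f D hf hf0 l (D + 1) (Nat.lt_succ_self D) w (by rw [h, sub_self]; exact zero_mem _)

theorem exists_of_pow_eq {R : Type*} [CommRing R] [IsDomain R] [IsIntegrallyClosed R] {x y u : R} {l : ℕ}
    (hl : 0 < l) (hy : y ≠ 0) (h : x ^ l = u * y ^ l) : ∃ z : R, x = z * y ∧ z ^ l = u := by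
  have hdvd : y ^ l ∣ x ^ l := ⟨u, by rw [h, mul_comm]⟩
  obtain ⟨z, hz⟩ := (IsIntegrallyClosed.pow_dvd_pow_iff hl.ne').1 hdvd
  refine ⟨z, by rw [hz, mul_comm], ?_⟩
  rw [hz, mul_pow, mul_comm (y ^ l)] at h
  exact mul_right_cancel₀ (pow_ne_zero _ hy) h

theorem locPow_of_mul [IsDomain (A g)] {l m : ℕ} {f : A g} (h : LocPow g (l * m) f) : LocPow g l f := by
  intro q hq hq'
  obtain ⟨u, a, b, hu, hb, h1⟩ := h q hq hq'
  refine ⟨u, a ^ m, b ^ m, hu, pow_ne_zero _ hb, ?_⟩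
  have h2 : ∀ x : A g, x ^ (l * m) = (x ^ m) ^ l := fun x => by rw [← pow_mul, mul_comm]
  rw [← h2, ← h2, h1]

theorem locPow_root [IsDomain (A g)] [IsIntegrallyClosed (A g)] {l m : ℕ} (hl : 0 < l) {w : A g} (hw : w ≠ 0)
    (h : LocPow g (l * m) (w ^ l)) : LocPow g m w := by
  intro q hq hq'
  obtain ⟨u, a, b, hu, hb, h1⟩ := h q hq hq'
  have h2 : ∀ x : A g, x ^ (l * m) = (x ^ m) ^ l := fun x => by rw [← pow_mul, mul_comm]
  have h3 : (w * b ^ m) ^ l = u * (a ^ m) ^ l := by rw [mul_pow, ← h2, ← h2, h1]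
  have ha : a ^ m ≠ 0 := by
    intro h0
    rw [h0, zero_pow hl.ne', mul_zero] at h3
    exact (pow_ne_zero l (mul_ne_zero hw (pow_ne_zero m hb))) h3
  obtain ⟨z, hz, hz'⟩ := exists_of_pow_eq hl ha h3
  refine ⟨z, a, b, ?_, hb, hz⟩
  intro h0
  apply hu
  rw [← hz']
  exact Ideal.pow_mem_of_mem q h0 l hl

/-- Reduction to prime exponents. -/
theorem root_of_prime [IsDomain (A g)] [IsIntegrallyClosed (A g)]
    (hroot : ∀ l : ℕ, l.Prime → ∀ (f : A g) (D : ℕ), Homog g hh D f → f ≠ 0 → LocPow g l f → ∃ w : A g, f = w ^ l)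
    (l : ℕ) (hl : 1 ≤ l) : ∀ (f : A g) (D : ℕ), Homog g hh D f → f ≠ 0 → LocPow g l f →
      ∃ (e : ℕ) (w : A g), Homog g hh e w ∧ l * e = D ∧ f = w ^ l := by
  induction l using Nat.recOnMul with
  | zero => omega
  | one => exact fun f D hf _ _ => ⟨D, f, hf, by omega, (pow_one f).symm⟩
  | prime p hp =>
    intro f D hf hf0 h
    obtain ⟨w, hw⟩ := hroot p hp f D hf hf0 h
    exact homog_root g hh hf hf0 hw
  | mul l m hl' hm' =>
    intro f D hf hf0 h
    have h1 : 1 ≤ l := Nat.pos_of_ne_zero (by rintro rfl; omega)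
    have h2 : 1 ≤ m := Nat.pos_of_ne_zero (by rintro rfl; omega)
    obtain ⟨e, w, hw, he, rfl⟩ := hl' h1 f D hf hf0 (locPow_of_mul g h)
    have hw0 : w ≠ 0 := by
      rintro rfl
      rw [zero_pow (by omega)] at hf0
      exact hf0 rfl
    obtain ⟨e', w', hw', he', rfl⟩ := hm' h2 w e hw hw0 (locPow_root g h1 hw0 h)
    refine ⟨e', w', hw', by rw [mul_assoc, he', he], ?_⟩
    rw [← pow_mul, mul_comm]

end Groth.Agent.Lefpen.H718.Frame
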