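import Groth.Agent.Lefpen.H718.RootNe
import Groth.Agent.Lefpen.H938.RootP

/-!
# Roots on the cone ring, all exponents

`root_all`: `f` homogeneous of degree `D` on the cone of a smooth complete intersection of dimension at least two, at
every point off the origin a unit times an `l`-th power: `f = w ^ l`, `w` homogeneous, `l * deg w = D`.
-/

set_option autoImplicit false
universe u

open MvPolynomial LefPen AlgebraicGeometry

namespace Groth.Agent.Lefpen.H718.Act

open Groth.Agent.Lefpen.H718.Reg Groth.Agent.Lefpen.H718.ConeCM Groth.Agent.Lefpen.H718.Grade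
open Groth.Agent.Lefpen.H718.Frame Groth.Agent.Lefpen.H718.Chart

theorem root_all {k : Type u} [Field k] [IsAlgClosed k] {N d n : ℕ} (g : Fin d → MvPolynomial (Fin (N + 1)) k)
    {a : Fin d → ℕ} (hh : ∀ i, (g i).IsHomogeneous (a i)) (hg : ∀ i, constantCoeff (g i) = 0) (hJ : JacCond g)
    (hN : N = n + d) (hn : 2 ≤ n) (l : ℕ) (hl : 1 ≤ l) (f : A g) (D : ℕ) (hf : Homog g hh D f) (hf0 : f ≠ 0)
    (h : LocPow g l f) : ∃ (e : ℕ) (w : A g), Homog g hh e w ∧ l * e = D ∧ f = w ^ l := by
  have hdom := isDomain g hh hg hJ hN (by omega)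
  have hic := isIntegrallyClosed g hh hg hJ hN (by omega)
  refine root_of_prime g hh (fun p hp f D hf hf0 h => ?_) l hl f D hf hf0 h
  by_cases hpk : (p : k) = 0
  · obtain ⟨q, hq⟩ := CharP.exists k
    have h1 : q ∣ p := (CharP.cast_eq_zero_iff k q p).1 hpk
    have h2 : q = p := (hp.eq_one_or_self_of_dvd q h1).resolve_left (CharP.char_ne_one k q)
    subst h2
    have : Fact q.Prime := ⟨hp⟩
    exact Groth.Agent.Lefpen.H938.RootP.root_p g hh hg hJ hN hn q f D hf hf0 h
  · exact Groth.Agent.Lefpen.H718.RootNe.root_ne g hh hg hJ hN hn p hp.pos hpk f D hf hf0 h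

theorem constantCoeff_form {k : Type u} [Field k] {N d : ℕ} {a : Fin d → ℕ} (ha : ∀ j, 1 ≤ a j)
    (G : ∀ j : Fin d, Form N k (a j)) (i : Fin d) : constantCoeff (G i).1 = 0 := by
  have h := (G i).2
  rw [constantCoeff_eq]
  by_contra h0
  have h1 : (G i).1.IsHomogeneous (a i) := h
  have h2 := h1 h0
  simp at h2
  have := ha i
  omega

/-- The case of a smooth complete intersection. -/
theorem root_ci {k : Type u} [Field k] [IsAlgClosed k] {N d n : ℕ} {a : Fin d → ℕ} (ha : ∀ j, 1 ≤ a j)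
    (G : ∀ j : Fin d, Form N k (a j)) (hh : ∀ i, ((G i).1).IsHomogeneous (a i)) (hN : N = n + d) (hn : 2 ≤ n)
    [SmoothOfRelativeDimension n (yStr G)] (l : ℕ) (hl : 1 ≤ l)
    (f : A (fun i => (G i).1)) (D : ℕ) (hf : Homog (fun i => (G i).1) hh D f) (hf0 : f ≠ 0)
    (h : LocPow (fun i => (G i).1) l f) :
    ∃ (e : ℕ) (w : A (fun i => (G i).1)), Homog (fun i => (G i).1) hh e w ∧ l * e = D ∧ f = w ^ l :=
  root_all _ hh (constantCoeff_form ha G) (JacCI.jacCond G hN) hN hn l hl f D hf hf0 h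

end Groth.Agent.Lefpen.H718.Act
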