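import Groth.Agent.Lefpen.H61.T4Phi

/-!
# Isomorphic invertible modules have proportional Cartier cocycles
-/

set_option autoImplicit false
universe u
open CategoryTheory CategoryTheory.Limits AlgebraicGeometry TopologicalSpace Opposite

namespace Groth.Agent.Lefpen.H718.CocIso

open Groth.Agent.Fdesc.LocGen Groth.Agent.Lefpen.H725.CocDef Groth.Agent.Lefpen.H61.T4Phi

variable {X : Scheme.{u}} [IsIntegral X]

theorem generic_mem_of_mem {U : X.Opens} {x : X} (hx : x ∈ U) : genericPoint X ∈ U := generic_mem_of hx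

/-- An isomorphism `L ≅ M` gives a constant `c` with `c a x / b x` a unit at `x`. -/
theorem exists_const_of_iso {L M : X.Modules} {a b : X → X.functionField} (h : HasCoc L a) (h' : HasCoc M b)
    (φ : L ≅ M) : ∃ c : X.functionField, c ≠ 0 ∧ ∀ x, UnitAt x (c * a x / b x) := by
  obtain ⟨ha, U, hU, e, he, hg⟩ := h
  obtain ⟨hb, V, hV, f, hf, hh⟩ := h'
  have h1 : ∀ x, ∃ v : Γ(X, U x ⊓ V x), IsUnit v ∧
      φ.hom.app (U x ⊓ V x) (res L inf_le_left (e x)) = v • res M inf_le_right (f x) := fun x =>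
    IsGen.exists_unit ((hf x).res inf_le_right) (((he x).res inf_le_left).app φ.hom)
  choose v hv hv' using h1
  have hη : ∀ x, genericPoint X ∈ U x ⊓ V x := fun x => generic_mem_of (x := x) ⟨hU x, hV x⟩
  have hne : ∀ x, ff (U x ⊓ V x) (hη x) (v x) ≠ 0 := fun x => ((hv x).map (ff (U x ⊓ V x) (hη x))).ne_zero
  have key : ∀ x y, ff (U x ⊓ V x) (hη x) (v x) * b x / a x = ff (U y ⊓ V y) (hη y) (v y) * b y / a y := by
    intro x y
    obtain ⟨g, hgη, hg1, hg2⟩ := hg x y
    obtain ⟨t, htη, ht1, ht2⟩ := hh x y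
    have e1 : (U x ⊓ V x) ⊓ (U y ⊓ V y) ≤ U x ⊓ U y := le_inf (inf_le_left.trans inf_le_left)
      (inf_le_right.trans inf_le_left)
    have e2 : (U x ⊓ V x) ⊓ (U y ⊓ V y) ≤ V x ⊓ V y := le_inf (inf_le_left.trans inf_le_right)
      (inf_le_right.trans inf_le_right)
    have e3 : (U x ⊓ V x) ⊓ (U y ⊓ V y) ≤ U x ⊓ V x := inf_le_left
    have e4 : (U x ⊓ V x) ⊓ (U y ⊓ V y) ≤ U y ⊓ V y := inf_le_right
    have e5 : (U x ⊓ V x) ⊓ (U y ⊓ V y) ≤ V y := e4.trans inf_le_right
    have hT : genericPoint X ∈ (U x ⊓ V x) ⊓ (U y ⊓ V y) := ⟨hη x, hη y⟩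
    have k1 := congrArg (res M e3) (hv' x)
    have k2 := congrArg (res M e4) (hv' y)
    have k3 := congrArg (res L e1) hg1
    have k4 := congrArg (res M e2) ht1
    rw [← app_res, res_res, res_smul, res_res] at k1 k2
    rw [res_smul, res_res, res_res] at k3 k4
    have k5 : (ores e1 g * ores e4 (v y)) • res M e5 (f y) = (ores e3 (v x) * ores e2 t) • res M e5 (f y) := by
      rw [mul_smul, mul_smul, ← k2, ← k4, ← k1, k3, Scheme.Modules.Hom.app_smul]
    have k6 := ((hf y).res e5).ext k5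
    have k7 := congrArg (ff _ hT) k6
    rw [map_mul, map_mul, ff_ores, ff_ores, ff_ores, ff_ores] at k7
    have hax := ha x
    have hay := ha y
    have hbx := hb x
    have hby := hb y
    rw [div_eq_div_iff hax hay, hg2, ht2]
    linear_combination (-(b y * a y)) * k7
  let x₀ : X := genericPoint X
  refine ⟨ff (U x₀ ⊓ V x₀) (hη x₀) (v x₀) * b x₀ / a x₀, div_ne_zero (mul_ne_zero (hne x₀) (hb x₀)) (ha x₀),
    fun x => ?_⟩
  rw [key x₀ x, div_mul_cancel₀ _ (ha x), mul_div_cancel_right₀ _ (hb x)]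
  exact ⟨U x ⊓ V x, ⟨hU x, hV x⟩, hη x, v x, hv x, rfl⟩

end Groth.Agent.Lefpen.H718.CocIso
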