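import Groth.Agent.Lefpen.H715.TupDef
import Groth.Agent.Lefpen.H725.CoverData

/-!
# Tuples of forms generating a Cartier cocycle: existence

`exists_tup`: a family `b x` of rational functions on `Y = V(G)` which is locally constant up to units
is generated, up to a constant and a twist, by a tuple of forms.
-/

set_option autoImplicit false
universe u

open CategoryTheory CategoryTheory.Limits AlgebraicGeometry TopologicalSpace Opposite MvPolynomial
open LefPen

namespace Groth.Agent.Lefpen.H718.NL8Tup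

open Groth.Agent.Lefpen.H718.Reg Groth.Agent.Lefpen.H718.ConeCM Groth.Agent.Lefpen.H718.Grade
open Groth.Agent.Lefpen.H718.Chart Groth.Agent.Lefpen.H725.CocDef Groth.Agent.Lefpen.H121.ChartLift
open Groth.Agent.Lefpen.H61.T4Phi Groth.Agent.Lefpen.H715.TupDef Groth.Agent.Lefpen.H725.CoverData
open Groth.Agent.Fdesc.LocGen

section gen

variable {X : Scheme.{u}} [IsIntegral X]

theorem regAt_mul {x : X} {u v : X.functionField} (h : RegAt x u) (h' : RegAt x v) : RegAt x (u * v) := by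
  obtain ⟨U, hx, hη, g, rfl⟩ := h
  obtain ⟨V, hx', hη', g', rfl⟩ := h'
  refine ⟨U ⊓ V, ⟨hx, hx'⟩, ⟨hη, hη'⟩, ores inf_le_left g * ores inf_le_right g', ?_⟩
  rw [map_mul, Groth.Agent.Lefpen.H61.T4Phi.ff_ores, Groth.Agent.Lefpen.H61.T4Phi.ff_ores]

theorem regAt_pow {x : X} {u : X.functionField} (h : RegAt x u) (n : ℕ) : RegAt x (u ^ n) := by
  obtain ⟨U, hx, hη, g, rfl⟩ := h
  exact ⟨U, hx, hη, g ^ n, by rw [map_pow]⟩

theorem regAt_ff {U : X.Opens} (hη : genericPoint X ∈ U) (s : Γ(X, U)) {x : X} (hx : x ∈ U) :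
    RegAt x (ff U hη s) := ⟨U, hx, hη, s, rfl⟩

end gen

variable {K : Type u} [Field K] {N d : ℕ} {a : Fin d → ℕ} (G : ∀ j : Fin d, Form N K (a j))

/-- A finite cover by basic opens of the charts subordinate to neighbourhoods of the points. -/
theorem exists_finite_basic (U : Y G → (Y G).Opens) (hU : ∀ x, x ∈ U x) :
    ∃ (r : ℕ) (xs : Fin r → Y G) (α : Fin r → Fin (N + 1)) (D : Fin r → ℕ)
      (P : Fin r → MvPolynomial (Fin (N + 1)) K), (∀ i, (P i).IsHomogeneous (D i)) ∧
      (∀ i, (Y G).basicOpen (fn G (α i) (P i)) ≤ U (xs i)) ∧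
      ∀ y : Y G, ∃ i, y ∈ (Y G).basicOpen (fn G (α i) (P i)) := by
  choose α D P hP hxP hPU using fun x => exists_basic G x (U x) (hU x)
  have hc : CompactSpace (Y G) := ⟨by
    have h1 : (Set.univ : Set (Y G)) = ⋃ j, (ychart G j : Set (Y G)) := by
      ext y
      simp only [Set.mem_univ, Set.mem_iUnion, true_iff]
      exact exists_chart G y
    rw [h1]
    exact isCompact_iUnion fun j => (isAffineOpen_ychart G j).isCompact⟩
  obtain ⟨t, ht⟩ := CompactSpace.elim_nhds_subcover (fun x : Y G => ((Y G).basicOpen (fn G (α x) (P x)) : Set (Y G)))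
    (fun x => ((Y G).basicOpen (fn G (α x) (P x))).2.mem_nhds (hxP x))
  let e := t.equivFin
  refine ⟨t.card, fun i => (e.symm i).1, fun i => α (e.symm i).1, fun i => D (e.symm i).1,
    fun i => P (e.symm i).1, fun i => hP _, fun i => hPU _, fun y => ?_⟩
  have hy : y ∈ (⋃ x ∈ t, ((Y G).basicOpen (fn G (α x) (P x)) : Set (Y G))) := by rw [ht]; trivial
  obtain ⟨x, hx, hyx⟩ := Set.mem_iUnion₂.1 hy
  refine ⟨e ⟨x, hx⟩, ?_⟩
  beta_reduce
  rw [Equiv.symm_apply_apply]
  exact hyx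

variable [IsIntegral (Y G)] (hdom : IsDomain (A (eqn G))) (hx : ∀ i, mk (eqn G) (X i) ≠ 0)

theorem val_change (α β : Fin (N + 1)) {D : ℕ} {P : MvPolynomial (Fin (N + 1)) K} (hP : P.IsHomogeneous D) :
    val G hdom hx α P = val G hdom hx α (X β) ^ D * val G hdom hx β P :=
  ff_fn G hdom hx α β hP

theorem val_X_self (α : Fin (N + 1)) : val G hdom hx α (X α) = 1 := by
  rw [val, fn_X_self, map_one]

theorem val_X_mul (α β : Fin (N + 1)) : val G hdom hx α (X β) * val G hdom hx β (X α) = 1 := by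
  have h := val_change G hdom hx α β (isHomogeneous_X K α)
  rw [val_X_self, pow_one] at h
  exact h.symm

theorem val_X_ne_zero (α β : Fin (N + 1)) : val G hdom hx α (X β) ≠ 0 :=
  left_ne_zero_of_mul_eq_one (val_X_mul G hdom hx α β)

theorem val_eq (α : Fin (N + 1)) {D : ℕ} {P : MvPolynomial (Fin (N + 1)) K} (hP : P.IsHomogeneous D) :
    val G hdom hx α P = val G hdom hx 0 P * val G hdom hx 0 (X α) ^ (-(D : ℤ)) := by
  rw [val_change G hdom hx α 0 hP, eq_inv_of_mul_eq_one_left (val_X_mul G hdom hx α 0), zpow_neg, zpow_natCast,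
    inv_pow, mul_comm]

/-- **Existence of generating tuples of forms.** -/
theorem exists_tup (b : Y G → (Y G).functionField) (h0 : ∀ x, b x ≠ 0)
    (hloc : ∀ x, ∃ U : (Y G).Opens, x ∈ U ∧ ∀ y ∈ U, UnitAt y (b x / b y)) :
    ∃ r, Nonempty (Tup G hdom hx b r) := by
  classical
  let Q := FractionRing (A (eqn G))
  obtain ⟨Φ, hΦ, hrange⟩ := exists_phi G hdom hx Q
  choose U hU hUb using hloc
  obtain ⟨r, xs, α, D, P, hP, hPU, hcov⟩ := exists_finite_basic G U hU
  have hH : ∀ i, (X (α i) * P i : MvPolynomial (Fin (N + 1)) K).IsHomogeneous (1 + D i) := fun i =>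
    (isHomogeneous_X K (α i)).mul (hP i)
  have hη := generic_mem G hdom hx
  have hmem : ∀ (i : Fin r) (β : Fin (N + 1)) (y : Y G), y ∈ ychart G β →
      (UnitAt y (val G hdom hx β (X (α i) * P i)) ↔ y ∈ (Y G).basicOpen (fn G (α i) (P i))) :=
    fun i β y hy => mem_basicOpen_mul_iff G hdom hx (α i) β hy (hP i)
  have hub : ∀ (i : Fin r) (y : Y G), y ∈ (Y G).basicOpen (fn G (α i) (P i)) → UnitAt y (b (xs i) / b y) :=
    fun i y hy => hUb (xs i) y (hPU i hy)
  -- numerators and denominators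
  have hfrac : ∀ i, ∃ (D : ℕ) (P R : MvPolynomial (Fin (N + 1)) K), P.IsHomogeneous D ∧ R.IsHomogeneous D ∧
      mk (eqn G) R ≠ 0 ∧ Φ (b (xs i)) = vv G Q P / vv G Q R := fun i => (hrange _).1 ⟨b (xs i), rfl⟩
  choose E p q hp hq hq0 hpq using hfrac
  have hvq : ∀ i, vv G Q (q i) ≠ 0 := fun i => by rw [Ne, vv_eq_zero_iff]; exact hq0 i
  -- the exponents
  have hpow : ∀ i j, ∃ (n : ℕ), ∀ y ∈ (Y G).basicOpen (fn G (α j) (P j)),
      RegAt y (val G hdom hx (α j) (X (α i) * P i) ^ n * (b (xs i) / b (xs j))) := by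
    intro i j
    by_cases hne : genericPoint (Y G) ∈ (Y G).basicOpen (fn G (α j) (P j))
    · have hWle : (Y G).basicOpen (fn G (α j) (P j)) ≤ ychart G (α j) := (Y G).basicOpen_le _
      obtain ⟨n, c, hc⟩ := Groth.Agent.Lefpen.H61.T4Coc.exists_pow_mul'
        ((isAffineOpen_ychart G (α j)).basicOpen (fn G (α j) (P j))) hne
        (ores hWle (fn G (α j) (X (α i) * P i))) (b (xs i) / b (xs j)) (fun y hy hy' => by
          rw [Groth.Agent.Lefpen.H61.T4Phi.ff_ores] at hy'
          have h1 : y ∈ (Y G).basicOpen (fn G (α i) (P i)) := (hmem i (α j) y (hWle hy)).1 hy'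
          have h2 := Groth.Agent.Lefpen.H521.CartierCoc.unitAt_div (hub i y h1) (hub j y hy)
          rw [div_div_div_cancel_right₀ (h0 y)] at h2
          exact Groth.Agent.Lefpen.H521.CartierCoc.unitAt_regAt h2)
      rw [Groth.Agent.Lefpen.H61.T4Phi.ff_ores] at hc
      refine ⟨n, fun y hy => ?_⟩
      change RegAt y (ff (ychart G (α j)) (hη (α j)) (fn G (α j) (X (α i) * P i)) ^ n * (b (xs i) / b (xs j)))
      rw [← hc]
      exact regAt_ff _ _ hy
    · exact ⟨0, fun y hy => absurd (generic_mem_of hy) hne⟩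
  choose n hn using hpow
  obtain ⟨M, hM⟩ : ∃ M, ∀ i j, n i j ≤ M :=
    ⟨∑ i, ∑ j, n i j, fun i j =>
      (Finset.single_le_sum (f := fun j => n i j) (fun _ _ => Nat.zero_le _) (Finset.mem_univ j)).trans
      (Finset.single_le_sum (f := fun i => ∑ j, n i j) (fun _ _ => Nat.zero_le _) (Finset.mem_univ i))⟩
  let Dt : ℕ := ∑ j, E j
  let δ : MvPolynomial (Fin (N + 1)) K := ∏ j, q j
  have hδ : δ.IsHomogeneous Dt := IsHomogeneous.prod _ _ _ fun j _ => hq j
  let v : Fin r → MvPolynomial (Fin (N + 1)) K := fun i => p i * ∏ j ∈ Finset.univ.erase i, q j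
  have hv : ∀ i, (v i).IsHomogeneous Dt := fun i => by
    have h1 := (hp i).mul (IsHomogeneous.prod (Finset.univ.erase i) q E fun j _ => hq j)
    rwa [Finset.add_sum_erase _ _ (Finset.mem_univ i)] at h1
  have hvδ : ∀ i, vv G Q (v i) = Φ (b (xs i)) * vv G Q δ := fun i => by
    have h1 : vv G Q δ = vv G Q (q i) * vv G Q (∏ j ∈ Finset.univ.erase i, q j) := by
      rw [← map_mul, Finset.mul_prod_erase _ _ (Finset.mem_univ i)]
    rw [h1, hpq, map_mul, ← mul_assoc, div_mul_cancel₀ _ (hvq i)]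
  have hval : ∀ (β : Fin (N + 1)) {D : ℕ} {F : MvPolynomial (Fin (N + 1)) K}, F.IsHomogeneous D →
      Φ (val G hdom hx β F) = vv G Q F / xx G Q β ^ D := fun β D F hF => phi_fn G hdom hx Q Φ hΦ β hF
  have hvval : ∀ i β, val G hdom hx β (v i) = b (xs i) * val G hdom hx β δ := fun i β => by
    apply Φ.injective
    rw [map_mul, hval β (hv i), hval β hδ, hvδ, mul_div_assoc]
  have hδ0 : val G hdom hx 0 δ ≠ 0 := fun h => by
    have h1 := hval 0 hδ
    rw [h, map_zero] at h1
    have h2 : vv G Q δ ≠ 0 := by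
      rw [map_prod]
      exact Finset.prod_ne_zero_iff.2 fun j _ => hvq j
    exact div_ne_zero h2 (pow_ne_zero _ (xx_ne_zero G hx Q 0)) h1.symm
  have key : ∀ (i : Fin r) (β : Fin (N + 1)) (y : Y G),
      val G hdom hx β ((X (α i) * P i) ^ M * v i) /
        (val G hdom hx 0 δ * b y * val G hdom hx 0 (X β) ^ (-(Dt : ℤ))) =
      val G hdom hx β (X (α i) * P i) ^ M * (b (xs i) / b y) := by
    intro i β y
    have h1 : val G hdom hx β ((X (α i) * P i) ^ M * v i) =
        val G hdom hx β (X (α i) * P i) ^ M * val G hdom hx β (v i) := by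
      simp only [val, map_mul, map_pow]
    rw [h1, hvval, val_eq G hdom hx β hδ]
    have h2 := zpow_ne_zero (-(Dt : ℤ)) (val_X_ne_zero G hdom hx 0 β)
    have h3 := h0 y
    field_simp
  have hu : ∀ i, ((X (α i) * P i) ^ M * v i).IsHomogeneous (M * (1 + D i) + Dt) := fun i => by
    have h1 := ((hH i).pow M).mul (hv i)
    rwa [mul_comm (1 + D i) M] at h1
  refine ⟨r, ⟨⟨val G hdom hx 0 δ, hδ0, -(Dt : ℤ), fun i => M * (1 + D i) + Dt,
    fun i => (X (α i) * P i) ^ M * v i, hu, fun i => 1 + D i, fun i => X (α i) * P i, hH,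
    fun i β y hy => ?_, fun i β y hy hy' => ?_, fun β y hy => ?_⟩⟩⟩
  · rw [key]
    obtain ⟨j, hj⟩ := hcov y
    have hyj : y ∈ ychart G (α j) := (Y G).basicOpen_le _ hj
    have h1 := val_change G hdom hx β (α j) (hH i)
    have h2 : UnitAt y (val G hdom hx β (X (α j))) := unitAt_X G hdom hx β (α j) hy hyj
    have h3 : RegAt y (val G hdom hx (α j) (X (α i) * P i)) := regAt_ff _ _ hyj
    have h4 := hn i j y hj
    have h5 : val G hdom hx β (X (α i) * P i) ^ M * (b (xs i) / b y) =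
        ((val G hdom hx β (X (α j)) ^ (1 + D i)) ^ M * val G hdom hx (α j) (X (α i) * P i) ^ (M - n i j)) *
          (val G hdom hx (α j) (X (α i) * P i) ^ n i j * (b (xs i) / b (xs j))) * (b (xs j) / b y) := by
      have h6 := h0 (xs j)
      have h7 := h0 y
      have h8 : val G hdom hx (α j) (X (α i) * P i) ^ M =
          val G hdom hx (α j) (X (α i) * P i) ^ (M - n i j) * val G hdom hx (α j) (X (α i) * P i) ^ n i j := by
        rw [← pow_add, Nat.sub_add_cancel (hM i j)]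
      rw [h1, mul_pow, h8]
      field_simp
    rw [h5]
    exact regAt_mul (regAt_mul (regAt_mul (Groth.Agent.Lefpen.H521.CartierCoc.unitAt_regAt
      (unitAt_pow (unitAt_pow h2 _) _)) (regAt_pow h3 _)) h4)
      (Groth.Agent.Lefpen.H521.CartierCoc.unitAt_regAt (hub j y hj))
  · rw [key]
    exact Groth.Agent.Lefpen.H521.CartierCoc.unitAt_mul (unitAt_pow hy' _) (hub i y ((hmem i β y hy).1 hy'))
  · obtain ⟨i, hi⟩ := hcov y
    exact ⟨i, (hmem i β y hy).2 hi⟩

end Groth.Agent.Lefpen.H718.NL8Tup
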