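import Groth.Agent.Lefpen.H718.Reg
import Groth.Agent.Ega4C.HullCM
import Groth.Agent.Models.CMSeq
import Groth.Agent.CalgA.SerreLocal
import Groth.Agent.S0601
import Groth.Agent.S2166
import Groth.Agent.Ega4dB.CITransport

/-!
# The affine cone of a smooth complete intersection: Cohen-Macaulay, complete intersection, normal

`S = k[T_0..T_N]`, `A = S/(g_1..g_d)`, `JacCond g`, `d ≤ N + 1`.
* `depth_eq_height`: `A_q` has depth `ht q` for every prime `q`.
* `isCompleteIntersection_localization`: every local ring of `A` is a complete intersection.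
* `height_irr`: the local ring at the origin has dimension `N + 1 - d`.
* `isDomain_localization`, `isIntegrallyClosed_localization`: normality when `d + 2 ≤ N + 1`.
-/

set_option autoImplicit false
universe u

open MvPolynomial IsLocalRing RingTheory.Sequence

namespace Groth.Agent.Lefpen.H718.ConeCM

open Groth.Agent.Lefpen.H718.Reg

section Local

variable {R : Type u} [CommRing R] [IsRegularLocalRing R]

theorem isRegular_of_height (rs : List R) (hmem : ∀ r ∈ rs, r ∈ maximalIdeal R)
    (hh : (rs.length : ℕ∞) ≤ (Ideal.ofList rs).height) : IsRegular R rs :=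
  Groth.Agent.Models.CMSeq.isRegular_of_ringKrullDim_le rs hmem
    (Groth.Agent.Ega4C.HullCM.ringKrullDim_quotient_add_le _ _ hh)

theorem depth_quot (rs : List R) (hmem : ∀ r ∈ rs, r ∈ maximalIdeal R)
    (hh : (rs.length : ℕ∞) ≤ (Ideal.ofList rs).height) [IsLocalRing (R ⧸ Ideal.ofList rs)] :
    ((LocCoh.depth (R ⧸ Ideal.ofList rs) (R ⧸ Ideal.ofList rs) : ℕ∞) : WithBot ℕ∞) =
      ringKrullDim (R ⧸ Ideal.ofList rs) := by
  have hreg := isRegular_of_height rs hmem hh
  have h1 := Groth.Agent.Ega4C.HullCM.cm_quot_ofList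
    (Groth.Agent.Models.CMSeq.isCohenMacaulayModule_self (R := R)) rs hmem hreg.toIsWeaklyRegular
  have eq : Ideal.ofList rs • (⊤ : Ideal R) = Ideal.ofList rs := by simp
  have h2 : LocCoh.IsCohenMacaulayModule R (R ⧸ Ideal.ofList rs) := by
    have e : (R ⧸ Ideal.ofList rs • (⊤ : Submodule R R)) ≃ₗ[R] (R ⧸ Ideal.ofList rs) :=
      Submodule.quotEquivOfEq _ _ eq
    exact (Groth.Agent.CalgB.CM2.cm_congr e).1 h1
  rw [LocCoh.IsCohenMacaulayModule, Module.supportDim_quotient_eq_ringKrullDim] at h2
  rw [h2]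
  congr 1
  exact (Groth.Agent.Ega4A.DepthBasic.depth_congr_of_surjective (Ideal.Quotient.mk (Ideal.ofList rs))
    Ideal.Quotient.mk_surjective (R ⧸ Ideal.ofList rs) (R ⧸ Ideal.ofList rs) (AddEquiv.refl _)
    (fun r m => by rfl)).symm

end Local

variable {k : Type u} [Field k] {N d : ℕ} (g : Fin d → MvPolynomial (Fin (N + 1)) k)

/-- The coordinate ring of the affine cone. -/
abbrev A : Type u := MvPolynomial (Fin (N + 1)) k ⧸ Ideal.span (Set.range g)

section

variable (hJ : JacCond g) (hd : d ≤ N + 1) (q : Ideal (A g)) [hq : q.IsPrime]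

/-- The equations in the local ring. -/
noncomputable def eqs : List (Localization.AtPrime (q.comap (Ideal.Quotient.mk (Ideal.span (Set.range g))))) :=
  (List.ofFn g).map (algebraMap _ _)

omit hq in
theorem g_mem (i : Fin d) : g i ∈ q.comap (Ideal.Quotient.mk (Ideal.span (Set.range g))) := by
  change Ideal.Quotient.mk (Ideal.span (Set.range g)) (g i) ∈ q
  have h0 : Ideal.Quotient.mk (Ideal.span (Set.range g)) (g i) = 0 :=
    Ideal.Quotient.eq_zero_iff_mem.2 (Ideal.subset_span ⟨i, rfl⟩)
  rw [h0]
  exact zero_mem _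

theorem eqs_mem : ∀ r ∈ eqs g q, r ∈ maximalIdeal
    (Localization.AtPrime (q.comap (Ideal.Quotient.mk (Ideal.span (Set.range g))))) := by
  intro r hr
  obtain ⟨s, hs, rfl⟩ := List.mem_map.1 hr
  obtain ⟨i, rfl⟩ := (List.mem_ofFn' _ _).1 hs
  rw [← Localization.AtPrime.map_eq_maximalIdeal]
  exact Ideal.mem_map_of_mem _ (g_mem g q i)

theorem ofList_eqs : Ideal.ofList (eqs g q) = (Ideal.span (Set.range g)).map
    (algebraMap _ (Localization.AtPrime (q.comap (Ideal.Quotient.mk (Ideal.span (Set.range g)))))) := by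
  rw [eqs, ← Ideal.map_ofList]
  congr 1
  rw [Ideal.ofList]
  congr 1
  ext x
  exact List.mem_ofFn' _ _

theorem nonempty_equiv : Nonempty (Localization.AtPrime q ≃+*
    (Localization.AtPrime (q.comap (Ideal.Quotient.mk (Ideal.span (Set.range g)))) ⧸
      Ideal.ofList (eqs g q))) := by
  obtain ⟨e⟩ := nonempty_quotient_equiv _ _ q
  exact ⟨e.trans (Ideal.quotEquivOfEq (ofList_eqs g q).symm)⟩

include hJ hd

theorem le_height_eqs : ((eqs g q).length : ℕ∞) ≤ (Ideal.ofList (eqs g q)).height := by
  rw [ofList_eqs]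
  have h1 := le_height g hJ hd
  have h2 : (eqs g q).length = d := by simp [eqs]
  rw [h2]
  exact h1.trans (Groth.Agent.Ega4C.HullCM.height_le_height_map
    (q.comap (Ideal.Quotient.mk (Ideal.span (Set.range g)))).primeCompl _)

theorem depth_eq_ringKrullDim :
    ((LocCoh.depth (Localization.AtPrime q) (Localization.AtPrime q) : ℕ∞) : WithBot ℕ∞) =
      ringKrullDim (Localization.AtPrime q) := by
  obtain ⟨e⟩ := nonempty_equiv g q
  have hnt := e.injective.nontrivial
  have hloc : IsLocalRing (Localization.AtPrime (q.comap (Ideal.Quotient.mk (Ideal.span (Set.range g)))) ⧸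
      Ideal.ofList (eqs g q)) := IsLocalRing.of_surjective' (Ideal.Quotient.mk _) Ideal.Quotient.mk_surjective
  have h1 : ringKrullDim (Localization.AtPrime q) = ringKrullDim (Localization.AtPrime
      (q.comap (Ideal.Quotient.mk (Ideal.span (Set.range g)))) ⧸ Ideal.ofList (eqs g q)) :=
    ringKrullDim_eq_of_ringEquiv e
  have h2 : LocCoh.depth (Localization.AtPrime q) (Localization.AtPrime q) = LocCoh.depth (Localization.AtPrime
      (q.comap (Ideal.Quotient.mk (Ideal.span (Set.range g)))) ⧸ Ideal.ofList (eqs g q)) (Localization.AtPrime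
      (q.comap (Ideal.Quotient.mk (Ideal.span (Set.range g)))) ⧸ Ideal.ofList (eqs g q)) :=
    Groth.Agent.CalgA.DepthSmall.depth_ringEquiv e
  rw [h1, h2]
  exact depth_quot _ (eqs_mem g q) (le_height_eqs g hJ hd q)

theorem depth_eq_height :
    LocCoh.depth (Localization.AtPrime q) (Localization.AtPrime q) = q.height := by
  have h := (depth_eq_ringKrullDim g hJ hd q).trans
    (IsLocalization.AtPrime.ringKrullDim_eq_height q (Localization.AtPrime q))
  exact_mod_cast h

theorem ringKrullDim_add :
    ringKrullDim (Localization.AtPrime q) + d = ringKrullDim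
      (Localization.AtPrime (q.comap (Ideal.Quotient.mk (Ideal.span (Set.range g))))) := by
  obtain ⟨e⟩ := nonempty_equiv g q
  have h := ringKrullDim_add_length_eq_ringKrullDim_of_isRegular _
    (isRegular_of_height _ (eqs_mem g q) (le_height_eqs g hJ hd q))
  have h2 : (eqs g q).length = d := by simp [eqs]
  rw [h2] at h
  have h1 : ringKrullDim (Localization.AtPrime q) = ringKrullDim (Localization.AtPrime
      (q.comap (Ideal.Quotient.mk (Ideal.span (Set.range g)))) ⧸ Ideal.ofList (eqs g q)) :=
    ringKrullDim_eq_of_ringEquiv e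
  rw [h1, h]

theorem isCompleteIntersection_localization : Pi1.IsCompleteIntersection (Localization.AtPrime q) := by
  obtain ⟨e⟩ := nonempty_equiv g q
  have hnt := e.injective.nontrivial
  have hloc : IsLocalRing (Localization.AtPrime (q.comap (Ideal.Quotient.mk (Ideal.span (Set.range g)))) ⧸
      Ideal.ofList (eqs g q)) := IsLocalRing.of_surjective' (Ideal.Quotient.mk _) Ideal.Quotient.mk_surjective
  have hne : Ideal.ofList (eqs g q) ≠ ⊤ := Ideal.Quotient.nontrivial_iff.1 inferInstance
  have h1 := (Groth.Agent.S2166.result (Ideal.ofList (eqs g q)) hne).2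
    ⟨eqs g q, rfl, isRegular_of_height _ (eqs_mem g q) (le_height_eqs g hJ hd q)⟩
  exact Groth.Agent.Ega4dB.CITransport.isCompleteIntersection_of_ringEquiv e.symm h1

end

/-- The irrelevant ideal of the coordinate ring of the cone. -/
noncomputable def irr : Ideal (A g) :=
  Ideal.map (Ideal.Quotient.mk (Ideal.span (Set.range g))) (Ideal.span (Set.range X))

theorem span_X_eq_ker : Ideal.span (Set.range (X : Fin (N + 1) → MvPolynomial (Fin (N + 1)) k)) =
    RingHom.ker (constantCoeff (R := k) (σ := Fin (N + 1))) := by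
  rw [← Set.image_univ]
  ext p
  rw [mem_ideal_span_X_image, RingHom.mem_ker, constantCoeff_eq]
  constructor
  · intro h
    by_contra hne
    obtain ⟨i, -, hi⟩ := h 0 (mem_support_iff.2 hne)
    exact hi rfl
  · intro h m hm
    by_contra hcon
    push Not at hcon
    have : m = 0 := Finsupp.ext fun i => by simpa using hcon i trivial
    rw [this, mem_support_iff] at hm
    exact hm h

theorem isMaximal_span_X :
    (Ideal.span (Set.range (X : Fin (N + 1) → MvPolynomial (Fin (N + 1)) k))).IsMaximal := by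
  rw [span_X_eq_ker]
  exact RingHom.ker_isMaximal_of_surjective _ (fun c => ⟨C c, by simp⟩)

theorem height_span_X :
    (Ideal.span (Set.range (X : Fin (N + 1) → MvPolynomial (Fin (N + 1)) k))).height = (N + 1 : ℕ) := by
  have hm := isMaximal_span_X (k := k) (N := N)
  apply le_antisymm
  · have h1 := Ideal.height_le_ringKrullDim_of_isPrime
      (I := Ideal.span (Set.range (X : Fin (N + 1) → MvPolynomial (Fin (N + 1)) k)))
    rw [MvPolynomial.ringKrullDim_of_isNoetherianRing, ringKrullDim_eq_zero_of_field, zero_add,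
      Nat.card_eq_fintype_card, Fintype.card_fin] at h1
    exact_mod_cast h1
  · exact le_height_irrelevant _ fun j => Ideal.subset_span ⟨j, rfl⟩

variable (hg : ∀ i, constantCoeff (g i) = 0)

include hg

theorem span_le : Ideal.span (Set.range g) ≤ Ideal.span (Set.range X) := by
  rw [span_X_eq_ker, Ideal.span_le]
  rintro _ ⟨i, rfl⟩
  exact hg i

theorem comap_irr : (irr g).comap (Ideal.Quotient.mk (Ideal.span (Set.range g))) = Ideal.span (Set.range X) := by
  rw [irr, Ideal.comap_map_of_surjective _ Ideal.Quotient.mk_surjective]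
  rw [← RingHom.ker_eq_comap_bot, Ideal.mk_ker]
  exact sup_eq_left.2 (span_le g hg)

theorem isMaximal_irr : (irr g).IsMaximal := by
  have h1 := isMaximal_span_X (k := k) (N := N)
  rcases Ideal.map_eq_top_or_isMaximal_of_surjective (Ideal.Quotient.mk (Ideal.span (Set.range g)))
    Ideal.Quotient.mk_surjective h1 with h2 | h2
  · exfalso
    have h3 := comap_irr g hg
    rw [irr, h2, Ideal.comap_top] at h3
    exact h1.ne_top h3.symm
  · exact h2

omit hg in
theorem eq_irr (q : Ideal (A g)) [q.IsPrime] (hm : (irr g).IsMaximal) (h : ∀ j, Ideal.Quotient.mk _ (X j) ∈ q) :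
    q = irr g := by
  refine (hm.eq_of_le (Ideal.IsPrime.ne_top inferInstance) ?_).symm
  rw [irr, Ideal.map_span, Ideal.span_le]
  rintro _ ⟨_, ⟨j, rfl⟩, rfl⟩
  exact h j

theorem height_irr (hJ : JacCond g) {n : ℕ} (hN : N = n + d) : (irr g).height = (n + 1 : ℕ) := by
  have hm := isMaximal_irr g hg
  have hp : (irr g).IsPrime := hm.isPrime
  have h1 := ringKrullDim_add g hJ (by omega) (irr g)
  have h2 : ringKrullDim (Localization.AtPrime (irr g)) = (irr g).height :=
    IsLocalization.AtPrime.ringKrullDim_eq_height (irr g) (Localization.AtPrime (irr g))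
  have h3 : ringKrullDim (Localization.AtPrime ((irr g).comap (Ideal.Quotient.mk (Ideal.span (Set.range g))))) =
      ((irr g).comap (Ideal.Quotient.mk (Ideal.span (Set.range g)))).height :=
    IsLocalization.AtPrime.ringKrullDim_eq_height _
      (Localization.AtPrime ((irr g).comap (Ideal.Quotient.mk (Ideal.span (Set.range g)))))
  rw [h2, h3, comap_irr g hg, height_span_X] at h1
  have h4 : (irr g).height + d = ((n + 1 : ℕ) : ℕ∞) + d := by
    have h5 : (irr g).height + (d : ℕ∞) = ((N + 1 : ℕ) : ℕ∞) := by exact_mod_cast h1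
    rw [h5, hN]
    push_cast
    ring
  exact le_antisymm ((ENat.add_le_add_iff_right (ENat.natCast_ne_top d)).1 h4.le)
    ((ENat.add_le_add_iff_right (ENat.natCast_ne_top d)).1 h4.ge)

theorem hasRk_one (hJ : JacCond g) {n : ℕ} (hN : N = n + d) (hn : 1 ≤ n) : LocCoh.HasRk 1 (A g) := by
  intro p hp hht
  by_cases h : ∃ j, Ideal.Quotient.mk (Ideal.span (Set.range g)) (X j) ∉ p
  · obtain ⟨j, hj⟩ := h
    exact (isRegularLocalRing_cone g hJ p j hj).1
  · push Not at h
    exfalso
    rw [eq_irr g p (isMaximal_irr g hg) h, height_irr g hg hJ hN] at hht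
    have : n + 1 ≤ 1 := by exact_mod_cast hht
    omega

omit hg in
theorem hasSk_two (hJ : JacCond g) (hd : d ≤ N + 1) : LocCoh.HasSk 2 (A g) (A g) := by
  rw [Groth.Agent.CalgA.SerreLocal.hasSk_self_iff]
  intro p hp
  rw [depth_eq_height g hJ hd p]
  exact min_le_right _ _

/-- The cone is normal. -/
theorem normal_localization (hJ : JacCond g) {n : ℕ} (hN : N = n + d) (hn : 1 ≤ n) (p : Ideal (A g)) [p.IsPrime] :
    IsDomain (Localization.AtPrime p) ∧ IsIntegrallyClosed (Localization.AtPrime p) :=
  (Groth.Agent.S0601.result (A g)).2 ⟨hasRk_one g hg hJ hN hn, hasSk_two g hJ (by omega)⟩ p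

end Groth.Agent.Lefpen.H718.ConeCM
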