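import Mathlib.RingTheory.AdjoinRoot
import Mathlib.RingTheory.IntegralClosure.IntegrallyClosed
import Mathlib.RingTheory.RingHom.Etale
import Mathlib.RingTheory.RingHom.Finite
import Mathlib.FieldTheory.Separable
import Mathlib.RingTheory.Etale.StandardEtale
import Groth.Agent.S0248

/-!
# The covering `z ^ l = f` of a normal domain, where `f` is locally a unit times an `l`-th power

`R` a normal domain with fraction field `K`, `f ∈ R`, `L = K[z]/(z^l - f)`. `E l f` is the `R`-subalgebra of `L` of the
elements which over `D(u)` belong to `R_u[z/h]` whenever `f = u h^l`, `h ∈ K^*`. Over such a `D(u)` it is finite étale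
(`l` invertible in `R`), and it contains `z`.
-/

set_option autoImplicit false
universe u

open Polynomial

namespace Groth.Agent.Lefpen.H718.RootAlg

variable {R : Type u} [CommRing R] [IsDomain R] (l : ℕ) (f : R)

/-- `K[z]/(z^l - f)`. -/
noncomputable abbrev L : Type u := AdjoinRoot (X ^ l - C (algebraMap R (FractionRing R) f) : (FractionRing R)[X])

/-- The root. -/
noncomputable def z : L l f := AdjoinRoot.root _

omit [IsDomain R] in
theorem z_pow : z l f ^ l = algebraMap R (L l f) f := by
  have h := AdjoinRoot.eval₂_root (X ^ l - C (algebraMap R (FractionRing R) f) : (FractionRing R)[X])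
  rw [eval₂_sub, eval₂_X_pow, eval₂_C, sub_eq_zero] at h
  exact h

/-- `z / h`. -/
noncomputable def w (h : FractionRing R) : L l f := algebraMap (FractionRing R) (L l f) h⁻¹ * z l f

/-- `f = u h^l`. -/
structure Pair (v : R) (h : FractionRing R) : Prop where
  ne : h ≠ 0
  eq : algebraMap R (FractionRing R) v * h ^ l = algebraMap R (FractionRing R) f

variable {l f}

theorem w_pow {v : R} {h : FractionRing R} (hp : Pair l f v h) : w l f h ^ l = algebraMap R (L l f) v := by
  have h1 := congrArg (algebraMap (FractionRing R) (L l f)) hp.eq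
  rw [w, mul_pow, z_pow, IsScalarTower.algebraMap_apply R (FractionRing R) (L l f) f, ← h1, ← map_pow, ← map_mul,
    IsScalarTower.algebraMap_apply R (FractionRing R) (L l f) v]
  congr 1
  have h2 : h⁻¹ ^ l * h ^ l = 1 := by rw [← mul_pow, inv_mul_cancel₀ hp.ne, one_pow]
  linear_combination (algebraMap R (FractionRing R) v) * h2

omit [IsDomain R] in
theorem exists_of_pow [IsIntegrallyClosed R] (hl : 0 < l) {x : FractionRing R} {r : R}
    (h : x ^ l = algebraMap R (FractionRing R) r) : ∃ s : R, algebraMap R (FractionRing R) s = x :=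
  IsIntegrallyClosed.exists_algebraMap_eq_of_isIntegral_pow hl (by rw [h]; exact isIntegral_algebraMap)

/-- `v w(h')` is a multiple of `w(h)`. -/
theorem exists_smul_w [IsIntegrallyClosed R] (hl : 0 < l) {v v' : R} {h h' : FractionRing R} (hp : Pair l f v h)
    (hp' : Pair l f v' h') : ∃ r : R, v • w l f h' = r • w l f h := by
  have hne := hp.ne
  have hne' := hp'.ne
  obtain ⟨r, hr⟩ : ∃ r : R, algebraMap R (FractionRing R) r = algebraMap R (FractionRing R) v * h / h' := by
    obtain ⟨m, rfl⟩ := Nat.exists_eq_add_of_le' hl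
    refine exists_of_pow (l := m + 1) (r := v ^ m * v') hl ?_
    rw [div_pow, mul_pow, map_mul, map_pow, div_eq_iff (pow_ne_zero _ hne'), mul_assoc, hp'.eq, ← hp.eq]
    ring
  refine ⟨r, ?_⟩
  rw [w, w, Algebra.smul_def, Algebra.smul_def, IsScalarTower.algebraMap_apply R (FractionRing R) (L l f) v,
    IsScalarTower.algebraMap_apply R (FractionRing R) (L l f) r, hr, ← mul_assoc, ← mul_assoc, ← map_mul, ← map_mul]
  congr 2
  field_simp

theorem exists_smul_z [IsIntegrallyClosed R] (hl : 0 < l) {v : R} {h : FractionRing R} (hp : Pair l f v h) :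
    ∃ r : R, v • z l f = r • w l f h := by
  have hne := hp.ne
  obtain ⟨r, hr⟩ : ∃ r : R, algebraMap R (FractionRing R) r = algebraMap R (FractionRing R) v * h := by
    obtain ⟨m, rfl⟩ := Nat.exists_eq_add_of_le' hl
    refine exists_of_pow (l := m + 1) (r := v ^ m * f) hl ?_
    rw [mul_pow, map_mul, map_pow, ← hp.eq]
    ring
  refine ⟨r, ?_⟩
  rw [w, Algebra.smul_def, Algebra.smul_def, IsScalarTower.algebraMap_apply R (FractionRing R) (L l f) v,
    IsScalarTower.algebraMap_apply R (FractionRing R) (L l f) r, hr, ← mul_assoc, ← map_mul]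
  congr 2
  field_simp

variable (l f)

/-- The covering algebra. -/
noncomputable def E : Subalgebra R (L l f) where
  carrier := {x | ∀ (v : R) (h : FractionRing R), Pair l f v h → ∃ N : ℕ, v ^ N • x ∈ Algebra.adjoin R {w l f h}}
  mul_mem' {x y} hx hy v h hp := by
    obtain ⟨N, hN⟩ := hx v h hp
    obtain ⟨M, hM⟩ := hy v h hp
    refine ⟨N + M, ?_⟩
    rw [pow_add, mul_smul_mul_comm]
    exact mul_mem hN hM
  add_mem' {x y} hx hy v h hp := by
    obtain ⟨N, hN⟩ := hx v h hp
    obtain ⟨M, hM⟩ := hy v h hp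
    refine ⟨N + M, ?_⟩
    rw [smul_add, pow_add]
    refine add_mem ?_ ?_
    · rw [mul_comm, mul_smul]
      exact Subalgebra.smul_mem _ hN _
    · rw [mul_smul]
      exact Subalgebra.smul_mem _ hM _
  algebraMap_mem' r v h hp := ⟨0, by
    rw [pow_zero, one_smul]
    exact Subalgebra.algebraMap_mem _ r⟩

variable {l f}

theorem w_mem [IsIntegrallyClosed R] (hl : 0 < l) {v : R} {h : FractionRing R} (hp : Pair l f v h) :
    w l f h ∈ E l f := by
  intro v' h' hp'
  obtain ⟨r, hr⟩ := exists_smul_w hl hp' hp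
  refine ⟨1, ?_⟩
  rw [pow_one, hr]
  exact Subalgebra.smul_mem _ (Algebra.self_mem_adjoin_singleton _ _) _

theorem z_mem [IsIntegrallyClosed R] (hl : 0 < l) : z l f ∈ E l f := by
  intro v' h' hp'
  obtain ⟨r, hr⟩ := exists_smul_z hl hp'
  refine ⟨1, ?_⟩
  rw [pow_one, hr]
  exact Subalgebra.smul_mem _ (Algebra.self_mem_adjoin_singleton _ _) _

section Local

variable [IsIntegrallyClosed R] (hl : 0 < l) {v : R} {h : FractionRing R} (hp : Pair l f v h)

/-- `R[T]/(T^l - v)`. -/
noncomputable abbrev Cov (l : ℕ) (v : R) : Type u := AdjoinRoot (X ^ l - C v : R[X])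

/-- `T ↦ z / h`. -/
noncomputable def jmap : Cov l v →ₐ[R] E l f :=
  AdjoinRoot.liftAlgHom _ (Algebra.ofId R (E l f)) ⟨w l f h, w_mem hl hp⟩ (by
    apply Subtype.ext
    simp only [eval₂_sub, eval₂_X_pow, eval₂_C]
    change w l f h ^ l - algebraMap R (L l f) v = 0
    rw [w_pow hp, sub_self])

theorem jmap_mk (P : R[X]) : ((jmap hl hp (AdjoinRoot.mk _ P) : E l f) : L l f) = aeval (w l f h) P := by
  have h1 : (E l f).val.comp ((jmap hl hp).comp (AdjoinRoot.mkₐ (X ^ l - C v : R[X]))) = aeval (w l f h) := by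
    apply Polynomial.algHom_ext
    simp [jmap]
  exact congr($h1 P)

theorem jmap_injective : Function.Injective (jmap hl hp) := by
  rw [injective_iff_map_eq_zero]
  intro x hx
  obtain ⟨P, rfl⟩ := AdjoinRoot.mk_surjective x
  have h1 : aeval (w l f h) P = 0 := by
    rw [← jmap_mk hl hp, hx]
    rfl
  rw [AdjoinRoot.mk_eq_zero, ← map_dvd_map (algebraMap R (FractionRing R)) (IsFractionRing.injective _ _)
    (monic_X_pow_sub_C v hl.ne')]
  have h2 : AdjoinRoot.mk (X ^ l - C (algebraMap R (FractionRing R) f) : (FractionRing R)[X])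
      ((P.map (algebraMap R (FractionRing R))).comp (C h⁻¹ * X)) = 0 := by
    rw [← h1]
    have h3 : AdjoinRoot.mk (X ^ l - C (algebraMap R (FractionRing R) f) : (FractionRing R)[X]) (C h⁻¹ * X) =
        w l f h := by
      rw [map_mul]
      rfl
    rw [comp, hom_eval₂, h3, eval₂_map, aeval_def]
    rfl
  rw [AdjoinRoot.mk_eq_zero] at h2
  obtain ⟨Q, hQ⟩ := h2
  have h4 := congrArg (fun p => p.comp (C h * X)) hQ
  simp only [mul_comp, sub_comp, pow_comp, X_comp, C_comp, comp_assoc] at h4
  have h5 : C h⁻¹ * (C h * X) = (X : (FractionRing R)[X]) := by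
    rw [← mul_assoc, ← C_mul, inv_mul_cancel₀ hp.ne, C_1, one_mul]
  rw [h5, comp_X] at h4
  rw [h4, Polynomial.map_sub, Polynomial.map_pow, map_X, map_C, ← hp.eq]
  refine ⟨C (h ^ l) * Q.comp (C h * X), ?_⟩
  rw [C_mul, C_pow]
  ring

theorem exists_jmap (x : E l f) : ∃ (n : ℕ) (c : Cov l v), jmap hl hp c = v ^ n • x := by
  obtain ⟨N, hN⟩ := x.2 v h hp
  rw [Algebra.adjoin_singleton_eq_range_aeval] at hN
  obtain ⟨P, hP⟩ := hN
  refine ⟨N, AdjoinRoot.mk _ P, Subtype.ext ?_⟩
  rw [jmap_mk]
  exact hP

open Groth.Agent.Pi1A.Purity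

/-- `R_v[T]/(T^l - v) ≅ E_v`. -/
noncomputable def locEquiv : Loc v (Cov l v) ≃ₐ[R] Loc v (E l f) :=
  AlgEquiv.ofBijective (locMap v (jmap hl hp)) (Groth.Agent.S0248.locMap_bijective _ _
    (fun b hb => ⟨0, by
      rw [pow_zero, one_smul]
      exact (injective_iff_map_eq_zero _).1 (jmap_injective hl hp) b hb⟩) (exists_jmap hl hp))

omit [IsDomain R] [IsIntegrallyClosed R] in
include hl in
theorem etale_cov (hlR : IsUnit (l : R)) : Algebra.Etale R (Loc v (Cov l v)) := by
  obtain ⟨m, rfl⟩ := Nat.exists_eq_add_of_le' hl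
  obtain ⟨c, hc⟩ := hlR.exists_left_inv
  let P : StandardEtalePair R := ⟨X ^ (m + 1) - C v, monic_X_pow_sub_C v (Nat.succ_ne_zero m), C v, C c * X, -1, 1, by
    have h1 : (C c : R[X]) * ((m + 1 : ℕ) : R[X]) = 1 := by
      rw [← map_natCast (C : R →+* R[X]), ← C_mul, hc, C_1]
    rw [derivative_sub, derivative_X_pow, derivative_C, sub_zero, pow_one, Nat.add_sub_cancel,
      map_natCast]
    linear_combination (X ^ (m + 1)) * h1⟩
  exact Algebra.Etale.of_equiv P.equivAwayAdjoinRoot

include hl hp in
theorem finite_awayMap : (Localization.awayMap (algebraMap R (E l f)) v).Finite := by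
  have h1 : (algebraMap R (Cov l v)).Finite := by
    have : Module.Finite R (Cov l v) := (monic_X_pow_sub_C v hl.ne').finite_adjoinRoot
    exact RingHom.finite_algebraMap.2 this
  have h2 : (Localization.awayMap (algebraMap R (Cov l v)) v).Finite :=
    RingHom.finite_localizationPreserves.away _ v _ _ h1
  have h3 : Localization.awayMap (algebraMap R (E l f)) v =
      ((locEquiv hl hp : Loc v (Cov l v) ≃+* Loc v (E l f)) : Loc v (Cov l v) →+* Loc v (E l f)).comp
        (Localization.awayMap (algebraMap R (Cov l v)) v) := by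
    apply IsLocalization.ringHom_ext (Submonoid.powers v)
    ext r
    simp only [RingHom.comp_apply, Localization.awayMap, IsLocalization.Away.map, IsLocalization.map_eq]
    have h4 := (locEquiv hl hp).commutes r
    rw [IsScalarTower.algebraMap_apply R (Cov l v) (Loc v (Cov l v)),
      IsScalarTower.algebraMap_apply R (E l f) (Loc v (E l f))] at h4
    exact h4.symm
  rw [h3]
  exact (RingHom.Finite.of_surjective _ (locEquiv hl hp).surjective).comp h2

include hl hp in
theorem etale_awayMap (hlR : IsUnit (l : R)) : (Localization.awayMap (algebraMap R (E l f)) v).Etale := by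
  have h1 := etale_cov (v := v) hl hlR
  have h2 : Algebra.Etale R (Loc v (E l f)) := Algebra.Etale.of_equiv (locEquiv hl hp)
  let _ : Algebra (Localization.Away v) (Loc v (E l f)) := (Localization.awayMap (algebraMap R (E l f)) v).toAlgebra
  have h3 : IsScalarTower R (Localization.Away v) (Loc v (E l f)) := IsScalarTower.of_algebraMap_eq fun r => by
    change _ = Localization.awayMap (algebraMap R (E l f)) v (algebraMap _ _ r)
    rw [Localization.awayMap, IsLocalization.Away.map, IsLocalization.map_eq,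
      ← IsScalarTower.algebraMap_apply R (E l f) (Loc v (E l f))]
  have h4 : Algebra.Etale R (Localization.Away v) := Algebra.Etale.of_isLocalizationAway v
  have h5 : Algebra.Etale (Localization.Away v) (Loc v (E l f)) := Algebra.Etale.of_restrictScalars R _ _
  exact RingHom.etale_algebraMap.2 h5

end Local

end Groth.Agent.Lefpen.H718.RootAlg
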