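import Groth.Agent.Lefpen.H718.RootAlg
import Groth.Agent.S1185
import Mathlib.AlgebraicGeometry.Morphisms.Etale

/-!
# The étale covering of the punctured spectrum given by an `l`-th root

`R` normal local Noetherian domain of dimension at least two for which purity holds, `l` invertible in `R`, `f ∈ R` which
at every prime different from the maximal ideal is a unit times an `l`-th power of the fraction field. Then `f` is an
`l`-th power in a nonzero finite étale `R`-algebra.
-/

set_option autoImplicit false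
universe u

open CategoryTheory CategoryTheory.Limits AlgebraicGeometry

namespace Groth.Agent.Lefpen.H718.RootCover

open Groth.Agent.Lefpen.H718.RootAlg

theorem image_preimage_ι {Y : Scheme.{u}} (T W : Y.Opens) (h : W ≤ T) : T.ι ''ᵁ T.ι ⁻¹ᵁ W = W := by
  rw [Scheme.Hom.image_preimage_eq_opensRange_inf, Scheme.Opens.opensRange_ι]
  exact inf_eq_right.2 h

/-- Restriction of a morphism to an open covered by opens over which the property holds. -/
theorem of_local (P : MorphismProperty Scheme.{u}) [IsZariskiLocalAtTarget P] {X Y : Scheme.{u}} (F : X ⟶ Y)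
    (U : Y.Opens) {ι : Type*} (W : ι → Y.Opens) (hW : U ≤ iSup W) (h : ∀ i, P (F ∣_ W i)) : P (F ∣_ U) := by
  have h1 : P (F ∣_ (iSup W)) := by
    refine IsZariskiLocalAtTarget.of_iSup_eq_top (fun i => (iSup W).ι ⁻¹ᵁ W i) ?_ fun i => ?_
    · rw [← Scheme.Hom.preimage_iSup, eq_top_iff]
      intro x _
      exact x.2
    · refine (P.arrow_mk_iso_iff (morphismRestrictRestrict F (iSup W) _ ≪≫ morphismRestrictEq F
        (image_preimage_ι _ _ (le_iSup W i)))).2 (h i)
  exact (P.arrow_mk_iso_iff (morphismRestrictRestrict F (iSup W) _ ≪≫ morphismRestrictEq F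
        (image_preimage_ι _ _ hW))).1 (IsZariskiLocalAtTarget.restrict h1 ((iSup W).ι ⁻¹ᵁ U))

variable (R : Type u) [CommRing R] [IsDomain R] [IsLocalRing R] [IsIntegrallyClosed R]

theorem finite_etale_restrict {l : ℕ} (hl : 0 < l) (hlR : IsUnit (l : R)) (f : R)
    (hloc : ∀ q : Ideal R, q.IsPrime → q ≠ IsLocalRing.maximalIdeal R → ∃ v ∉ q, ∃ h, Pair l f v h) :
    IsFinite (Spec.map (CommRingCat.ofHom (algebraMap R (E l f))) ∣_ FEt.puncturedSpec R) ∧
      Etale (Spec.map (CommRingCat.ofHom (algebraMap R (E l f))) ∣_ FEt.puncturedSpec R) := by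
  have hcov : FEt.puncturedSpec R ≤ iSup (fun v : {v : R // ∃ h, Pair l f v h} =>
      (PrimeSpectrum.basicOpen v.1 : (Spec (CommRingCat.of R)).Opens)) := by
    intro q hq
    have hq' : q ≠ IsLocalRing.closedPoint R := hq
    obtain ⟨v, hv, h⟩ := hloc q.asIdeal q.2 (fun he => hq' (PrimeSpectrum.ext he))
    exact TopologicalSpace.Opens.mem_iSup.2 ⟨⟨v, h⟩, hv⟩
  constructor
  · refine of_local @IsFinite _ _ _ hcov ?_
    rintro ⟨v, h, hp⟩
    refine (MorphismProperty.arrow_mk_iso_iff @IsFinite (SpecMapRestrictBasicOpenIso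
      (CommRingCat.ofHom (algebraMap R (E l f))) v)).2 ?_
    rw [IsFinite.SpecMap_iff]
    exact finite_awayMap hl hp
  · refine of_local @Etale _ _ _ hcov ?_
    rintro ⟨v, h, hp⟩
    refine (MorphismProperty.arrow_mk_iso_iff @Etale (SpecMapRestrictBasicOpenIso
      (CommRingCat.ofHom (algebraMap R (E l f))) v)).2 ?_
    rw [HasRingHomProperty.Spec_iff (P := @Etale)]
    exact etale_awayMap hl hp hlR

omit [IsIntegrallyClosed R] in
theorem exists_point {l : ℕ} (hl : 0 < l) (f : R) (hm : IsLocalRing.maximalIdeal R ≠ ⊥) :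
    ∃ x : Spec (CommRingCat.of (E l f)), x ∈ Spec.map (CommRingCat.ofHom (algebraMap R (E l f))) ⁻¹ᵁ
      FEt.puncturedSpec R := by
  have hnt : Nontrivial (L l f) := by
    apply AdjoinRoot.nontrivial
    rw [Polynomial.degree_X_pow_sub_C hl]
    exact_mod_cast hl.ne'
  obtain ⟨n, hn⟩ := Ideal.exists_maximal (L l f)
  let x : PrimeSpectrum (E l f) := PrimeSpectrum.comap (E l f).val.toRingHom ⟨n, hn.isPrime⟩
  refine ⟨x, ?_⟩
  change PrimeSpectrum.comap (algebraMap R (E l f)) x ≠ IsLocalRing.closedPoint R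
  intro h
  apply hm
  rw [eq_bot_iff]
  intro r hr
  have h1 : (IsLocalRing.closedPoint R).asIdeal = n.comap (algebraMap R (L l f)) := by
    rw [← h]
    rfl
  have h2 : r ∈ (IsLocalRing.closedPoint R).asIdeal := hr
  rw [h1, Ideal.mem_comap, IsScalarTower.algebraMap_apply R (FractionRing R) (L l f)] at h2
  by_contra h0
  apply hn.ne_top
  refine Ideal.eq_top_of_isUnit_mem _ h2 ((IsUnit.mk0 _ ?_).map _)
  rwa [Ne, FaithfulSMul.algebraMap_eq_zero_iff]

/-- An `l`-th root of `f` exists in a nonzero finite étale `R`-algebra. -/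
theorem exists_etale [IsNoetherianRing R] (hdim : (2 : WithBot ℕ∞) ≤ ringKrullDim R) (hP : FEt.PurityHolds R)
    {l : ℕ} (hl : 0 < l) (hlR : IsUnit (l : R)) (f : R)
    (hloc : ∀ q : Ideal R, q.IsPrime → q ≠ IsLocalRing.maximalIdeal R → ∃ v ∉ q, ∃ h, Pair l f v h) :
    ∃ (C : Type u) (_ : CommRing C) (_ : Algebra R C), Module.Finite R C ∧ Algebra.Etale R C ∧ Nontrivial C ∧
      ∃ z : C, z ^ l = algebraMap R C f := by
  let F : Spec (CommRingCat.of (E l f)) ⟶ Spec (CommRingCat.of R) :=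
    Spec.map (CommRingCat.ofHom (algebraMap R (E l f)))
  let U := FEt.puncturedSpec R
  let V : FEt.Cat (U : Scheme.{u}) := MorphismProperty.Over.mk ⊤ (F ∣_ U) (finite_etale_restrict R hl hlR f hloc)
  have hne : IsLocalRing.maximalIdeal R ≠ ⊥ := by
    intro h
    have h1 := (IsLocalRing.maximalIdeal_height_eq_ringKrullDim (R := R)).symm
    rw [h, Ideal.height_bot] at h1
    rw [h1] at hdim
    exact absurd hdim (by decide)
  obtain ⟨x, hx⟩ := exists_point R hl f hne
  have h1 := S1185.result R hdim V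
  have h2 := h1.1
  have h3 := h1.2.1 ⟨_, ⟨(hP.mem_essImage V).choose_spec.some⟩⟩
  let C := Γ(((F ⁻¹ᵁ U : (Spec (CommRingCat.of (E l f))).Opens) : Scheme.{u}), ⊤)
  let ρ : R →+* C := ((((V.hom ≫ (FEt.puncturedSpec R).ι).appTop).hom.comp
    (Scheme.ΓSpecIso (CommRingCat.of R)).inv.hom))
  let _ : Algebra R C := ρ.toAlgebra
  refine ⟨C, inferInstance, inferInstance, h2, h3, ?_, ?_⟩
  · have : Nonempty (⊤ : ((F ⁻¹ᵁ U : (Spec (CommRingCat.of (E l f))).Opens) : Scheme.{u}).Opens) :=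
      ⟨⟨⟨x, hx⟩, trivial⟩⟩
    exact Scheme.component_nontrivial _ _
  · let θ : CommRingCat.of (E l f) ⟶ C :=
      (Scheme.ΓSpecIso (CommRingCat.of (E l f))).inv ≫ (F ⁻¹ᵁ U).ι.appTop
    have hθ : CommRingCat.ofHom (algebraMap R (E l f)) ≫ θ = CommRingCat.ofHom ρ := by
      have h4 : (F ∣_ U) ≫ U.ι = (F ⁻¹ᵁ U).ι ≫ F := morphismRestrict_ι F U
      have h5 : CommRingCat.ofHom ρ = (Scheme.ΓSpecIso (CommRingCat.of R)).inv ≫ ((F ∣_ U) ≫ U.ι).appTop := rfl
      rw [h5, h4, Scheme.Hom.comp_appTop, Scheme.ΓSpecIso_inv_naturality_assoc]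
    refine ⟨θ.hom ⟨z l f, z_mem hl⟩, ?_⟩
    rw [← map_pow]
    have h6 : (⟨z l f, z_mem hl⟩ : E l f) ^ l = algebraMap R (E l f) f := Subtype.ext (z_pow (l := l) (f := f))
    rw [h6]
    exact congr($hθ f)

end Groth.Agent.Lefpen.H718.RootCover
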