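import Groth.Agent.Lefpen.H718.RootCover
import Groth.Agent.Lefpen.H718.Frame
import Groth.Agent.S0272
import Mathlib.RingTheory.Smooth.Basic
import Mathlib.RingTheory.Localization.AtPrime.Basic

/-!
# Roots on the cone ring for exponents prime to the characteristic

* `exists_approx`: an `l`-th root in a nonzero finite étale algebra gives `l`-th roots modulo every power of the maximal
  ideal (algebraically closed residue field).
* `root_ne`: `f` homogeneous, `LocPow g l f`, `l` invertible in `k`: `f` is an `l`-th power. (Purity for complete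
  intersections of dimension three.)
-/

set_option autoImplicit false
universe u

open IsLocalRing MvPolynomial

namespace Groth.Agent.Lefpen.H718.RootNe

theorem exists_approx {R : Type u} [CommRing R] [IsLocalRing R] [IsAlgClosed (ResidueField R)] {C : Type u}
    [CommRing C] [Algebra R C] [Module.Finite R C] [Algebra.Etale R C] [Nontrivial C] (z : C) (l : ℕ) (f : R)
    (hz : z ^ l = algebraMap R C f) (M : ℕ) (hM : M ≠ 0) : ∃ x : R, f - x ^ l ∈ maximalIdeal R ^ M := by
  obtain ⟨n, hn⟩ := Ideal.exists_maximal C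
  have hmn : maximalIdeal R = n.comap (algebraMap R C) := by
    have h1 : (n.comap (algebraMap R C)).IsMaximal := Ideal.isMaximal_comap_of_isIntegral_of_isMaximal n
    exact (IsLocalRing.eq_maximalIdeal h1).symm
  let φ : ResidueField R →ₐ[R] C ⧸ n := Ideal.Quotient.liftₐ (maximalIdeal R) (Algebra.ofId R (C ⧸ n)) (by
    intro a ha
    rw [hmn, Ideal.mem_comap] at ha
    exact Ideal.Quotient.eq_zero_iff_mem.2 ha)
  let _ : Algebra (ResidueField R) (C ⧸ n) := φ.toRingHom.toAlgebra
  have h2 : IsScalarTower R (ResidueField R) (C ⧸ n) := IsScalarTower.of_algebraMap_eq fun r => (φ.commutes r).symm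
  have h3 : Algebra.IsIntegral R (C ⧸ n) := Algebra.IsIntegral.of_surjective (Ideal.Quotient.mkₐ R n)
    Ideal.Quotient.mk_surjective
  have h4 : Algebra.IsIntegral (ResidueField R) (C ⧸ n) := Algebra.IsIntegral.tower_top (R := R)
  have h5 : Function.Bijective φ := IsAlgClosed.algebraMap_bijective_of_isIntegral (k := ResidueField R)
  let ψ : C →ₐ[R] ResidueField R := (AlgEquiv.ofBijective φ h5).symm.toAlgHom.comp (Ideal.Quotient.mkₐ R n)
  let π : R ⧸ maximalIdeal R ^ M →ₐ[R] ResidueField R := Ideal.Quotient.factorₐ R (Ideal.pow_le_self hM)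
  have hπ : Function.Surjective π := Ideal.Quotient.factor_surjective (Ideal.pow_le_self hM)
  have hπ' : IsNilpotent (RingHom.ker (π : R ⧸ maximalIdeal R ^ M →+* ResidueField R)) := by
    refine ⟨M, ?_⟩
    have h6 : RingHom.ker (π : R ⧸ maximalIdeal R ^ M →+* ResidueField R) =
        (maximalIdeal R).map (Ideal.Quotient.mk (maximalIdeal R ^ M)) := by
      ext x
      obtain ⟨r, rfl⟩ := Ideal.Quotient.mk_surjective x
      constructor
      · intro hx
        have : r ∈ maximalIdeal R := Ideal.Quotient.eq_zero_iff_mem.1 hx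
        exact Ideal.mem_map_of_mem _ this
      · intro hx
        have h7 := Ideal.mem_quotient_iff_mem (Ideal.pow_le_self hM) |>.1 hx
        exact Ideal.Quotient.eq_zero_iff_mem.2 h7
    rw [h6, ← Ideal.map_pow, Ideal.map_quotient_self]
    rfl
  let σ : C →ₐ[R] R ⧸ maximalIdeal R ^ M := Algebra.FormallySmooth.liftOfSurjective ψ π hπ hπ'
  obtain ⟨x, hx⟩ := Ideal.Quotient.mk_surjective (σ z)
  refine ⟨x, ?_⟩
  rw [← Ideal.Quotient.eq_zero_iff_mem, map_sub, map_pow, hx, ← map_pow, hz, AlgHom.commutes]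
  exact sub_self _

open Groth.Agent.Lefpen.H718.Reg Groth.Agent.Lefpen.H718.ConeCM Groth.Agent.Lefpen.H718.Grade
open Groth.Agent.Lefpen.H718.Frame Groth.Agent.Lefpen.H718.RootAlg

theorem exists_pair {S T : Type u} [CommRing S] [CommRing T] [IsDomain T] [Algebra S T]
    (hinj : Function.Injective (algebraMap S T)) {l : ℕ} (f v x y : S) (hx : x ≠ 0) (hy : y ≠ 0)
    (hxy : f * y ^ l = v * x ^ l) : ∃ h, Pair l (algebraMap S T f) (algebraMap S T v) h := by
  have hK : Function.Injective (algebraMap T (FractionRing T)) := IsFractionRing.injective _ _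
  have hy' : algebraMap T (FractionRing T) (algebraMap S T y) ≠ 0 := by
    rw [Ne, map_eq_zero_iff _ hK, map_eq_zero_iff _ hinj]
    exact hy
  have hx' : algebraMap T (FractionRing T) (algebraMap S T x) ≠ 0 := by
    rw [Ne, map_eq_zero_iff _ hK, map_eq_zero_iff _ hinj]
    exact hx
  refine ⟨algebraMap T (FractionRing T) (algebraMap S T x) / algebraMap T (FractionRing T) (algebraMap S T y),
    div_ne_zero hx' hy', ?_⟩
  rw [div_pow, mul_div_assoc', div_eq_iff (pow_ne_zero _ hy'), ← map_pow, ← map_pow, ← map_mul, ← map_mul,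
    ← map_pow, ← map_pow, ← map_mul, ← map_mul, hxy]

theorem bijective_residue {k : Type u} [Field k] {N d : ℕ} (g : Fin d → MvPolynomial (Fin (N + 1)) k)
    [hm : (irr g).IsMaximal] :
    Function.Bijective ((Ideal.Quotient.mk (irr g)).comp ((Ideal.Quotient.mk (Ideal.span (Set.range g))).comp
      (C (R := k) (σ := Fin (N + 1))))) := by
  have hnt : Nontrivial (A g ⧸ irr g) := Ideal.Quotient.nontrivial_iff.2 hm.ne_top
  refine ⟨RingHom.injective _, fun x => ?_⟩
  obtain ⟨y, rfl⟩ := Ideal.Quotient.mk_surjective x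
  obtain ⟨p, rfl⟩ := Ideal.Quotient.mk_surjective y
  refine ⟨constantCoeff p, ?_⟩
  have h7 : p - C (constantCoeff p) ∈ Ideal.span (Set.range X) := by
    rw [span_X_eq_ker, RingHom.mem_ker, map_sub, constantCoeff_C, sub_self]
  have h8 := Ideal.mem_map_of_mem (Ideal.Quotient.mk (Ideal.span (Set.range g))) h7
  rw [map_sub] at h8
  exact (Ideal.Quotient.eq.2 h8).symm

theorem isAlgClosed_residueField {k : Type u} [Field k] [IsAlgClosed k] {N d : ℕ}
    (g : Fin d → MvPolynomial (Fin (N + 1)) k) [hm : (irr g).IsMaximal] [(irr g).IsPrime] :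
    IsAlgClosed (ResidueField (Localization.AtPrime (irr g))) :=
  IsAlgClosed.of_ringEquiv k _ ((RingEquiv.ofBijective _ (bijective_residue g)).trans
    (IsLocalization.AtPrime.equivQuotMaximalIdeal (irr g) (Localization.AtPrime (irr g))))

theorem root_ne {k : Type u} [Field k] [IsAlgClosed k] {N d n : ℕ} (g : Fin d → MvPolynomial (Fin (N + 1)) k)
    {a : Fin d → ℕ} (hh : ∀ i, (g i).IsHomogeneous (a i)) (hg : ∀ i, constantCoeff (g i) = 0) (hJ : JacCond g)
    (hN : N = n + d) (hn : 2 ≤ n) (l : ℕ) (hl : 0 < l) (hlk : (l : k) ≠ 0)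
    (f : A g) (D : ℕ) (hf : Homog g hh D f) (hf0 : f ≠ 0) (h : LocPow g l f) : ∃ w : A g, f = w ^ l := by
  have hdom := isDomain g hh hg hJ hN (by omega)
  have hmax := isMaximal_irr g hg
  have hpr : (irr g).IsPrime := hmax.isPrime
  let B := Localization.AtPrime (irr g)
  have hB := normal_localization g hg hJ hN (by omega) (irr g)
  have hBd : IsDomain B := hB.1
  have hBn : IsIntegrallyClosed B := hB.2
  have hci : Pi1.IsCompleteIntersection B := isCompleteIntersection_localization g hJ (by omega) (irr g)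
  have hdim : ringKrullDim B = ((n + 1 : ℕ) : WithBot ℕ∞) := by
    rw [IsLocalization.AtPrime.ringKrullDim_eq_height (irr g) B, height_irr g hg hJ hN]
    rfl
  have h3 : (3 : WithBot ℕ∞) ≤ ringKrullDim B := by
    rw [hdim]
    have : 3 ≤ n + 1 := by omega
    exact_mod_cast this
  have hP := S0272.result B hci h3
  have h2 : (2 : WithBot ℕ∞) ≤ ringKrullDim B := le_trans (by norm_num) h3
  have hlB : IsUnit (l : B) := by
    have h4 : IsUnit (algebraMap (A g) B (algebraMap k (A g) (l : k))) := ((IsUnit.mk0 _ hlk).map _).map _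
    simpa using h4
  have hinj : Function.Injective (algebraMap (A g) B) := algebraMap_injective g hh
  have hloc : ∀ q : Ideal B, q.IsPrime → q ≠ maximalIdeal B → ∃ v ∉ q, ∃ h, Pair l (algebraMap (A g) B f) v h := by
    intro q hq hqm
    have hq' : (q.comap (algebraMap (A g) B)).IsPrime := Ideal.IsPrime.comap _
    have hne : q.comap (algebraMap (A g) B) ≠ irr g := by
      intro he
      apply hqm
      have h4 : (q.comap (algebraMap (A g) B)).map (algebraMap (A g) B) = q :=
        IsLocalization.map_under (irr g).primeCompl B q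
      rw [he, Localization.AtPrime.map_eq_maximalIdeal] at h4
      exact h4.symm
    obtain ⟨v, x, y, hv, hy, hxy⟩ := h _ hq' hne
    have hx : x ≠ 0 := by
      rintro rfl
      rw [zero_pow hl.ne', mul_zero] at hxy
      exact mul_ne_zero hf0 (pow_ne_zero l hy) hxy
    exact ⟨algebraMap (A g) B v, hv, exists_pair hinj f v x y hx hy hxy⟩
  obtain ⟨C, _, _, hC1, hC2, hC3, z, hz⟩ := RootCover.exists_etale B h2 hP hl hlB (algebraMap (A g) B f) hloc
  have hclosed : IsAlgClosed (ResidueField B) := isAlgClosed_residueField g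
  obtain ⟨x, hx⟩ := exists_approx z l _ hz (D + 1) (Nat.succ_ne_zero D)
  obtain ⟨y, hy⟩ := (IsLocalization.AtPrime.equivQuotMaximalIdealPow (irr g) B (D + 1)).surjective
    (Ideal.Quotient.mk _ x)
  obtain ⟨y, rfl⟩ := Ideal.Quotient.mk_surjective y
  have h9 : f - y ^ l ∈ irr g ^ (D + 1) := by
    rw [← Ideal.Quotient.eq_zero_iff_mem]
    apply (IsLocalization.AtPrime.equivQuotMaximalIdealPow (irr g) B (D + 1)).injective
    rw [map_sub, map_pow, map_sub, map_pow, hy, map_zero]
    rw [IsLocalization.AtPrime.equivQuotMaximalIdealPow_apply_mk, ← map_pow, ← map_sub]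
    exact Ideal.Quotient.eq_zero_iff_mem.2 hx
  obtain ⟨e, w, -, -, hw⟩ := exists_root g hh f D hf hf0 l (D + 1) (Nat.lt_succ_self D) y h9
  exact ⟨w, hw⟩

end Groth.Agent.Lefpen.H718.RootNe
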